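import Cfsg.Agent.BlocksChars.SuzukiDegrees.Data

/-!
# The degrees of `Sz(q)` from the data of its three tori

With `q = 2 a ^ 2` the tori have orders `w = q - 1`, `kp = q + 2 a + 1` and `km = q - 2 a + 1`.
Only the finite set of characters, its degree function and the three `TData` are used.
-/

set_option autoImplicit false
set_option linter.unusedSectionVars false

namespace Cfsg.Agent.BlocksChars.SuzukiDegrees

/-- The general arithmetic hypotheses. -/
structure Ctx {I : Type*} [Fintype I] (d : I → ℕ) (o : I) (a w kp km : ℕ) : Prop where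
  a_cases : a = 2 ∨ 4 ≤ a
  w_eq : w + 1 = 2 * a ^ 2
  kp_eq : kp = 2 * a ^ 2 + 2 * a + 1
  km_eq : km + 2 * a = 2 * a ^ 2 + 1
  d_o : d o = 1
  one_lt : ∀ χ, χ ≠ o → 1 < d χ
  dvd : ∀ χ, d χ ∣ 4 * a ^ 4 * (4 * a ^ 4 + 1) * w
  sum : ∑ χ, d χ ^ 2 = 4 * a ^ 4 * (4 * a ^ 4 + 1) * w
  cop : kp.Coprime km
  copp : kp.Coprime w
  copm : km.Coprime w
  oddp : Odd kp
  oddm : Odd km

theorem eq_zero_of_small {k : ℕ} {x : ℤ} (h : (k : ℤ) ∣ x) (h1 : -(k : ℤ) < x) (h2 : x < k) :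
    x = 0 :=
  Int.eq_zero_of_abs_lt_dvd h (abs_lt.2 ⟨h1, h2⟩)

theorem bounds_of_sq_le_four {f : ℤ} (h : f ^ 2 ≤ 4) : -2 ≤ f ∧ f ≤ 2 :=
  ⟨by nlinarith, by nlinarith⟩

theorem sq_eq_one_of_le_three {f : ℤ} (h0 : f ≠ 0) (h : f ^ 2 ≤ 3) : f ^ 2 = 1 := by
  have h1 : -1 ≤ f := by nlinarith
  have h2 : f ≤ 1 := by nlinarith
  obtain rfl | rfl : f = 1 ∨ f = -1 := by omega
  all_goals norm_num

variable {I : Type*} [Fintype I] [DecidableEq I] {d : I → ℕ} {o : I} {a w kp km : ℕ}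

namespace Ctx

variable (C : Ctx d o a w kp km)
include C

theorem two_le : 2 ≤ a := by rcases C.a_cases with h | h <;> omega

theorem seven_le_w : 7 ≤ w := by
  have := C.two_le; have := C.w_eq; nlinarith

theorem sq_le_km : a ^ 2 + 1 ≤ km := by
  have := C.two_le; have := C.km_eq; nlinarith

theorem km_lt_kp : km < kp := by
  have := C.two_le; have := C.kp_eq; have := C.km_eq; omega

theorem mul_eq : kp * km = 4 * a ^ 4 + 1 := by
  have h1 := C.kp_eq
  have h2 : (km : ℤ) = 2 * a ^ 2 + 1 - 2 * a := by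
    have : ((km + 2 * a : ℕ) : ℤ) = ((2 * a ^ 2 + 1 : ℕ) : ℤ) := by rw [C.km_eq]
    push_cast at this; linarith
  have : ((kp * km : ℕ) : ℤ) = ((4 * a ^ 4 + 1 : ℕ) : ℤ) := by
    push_cast; rw [h1, h2]; push_cast; ring
  exact_mod_cast this

theorem w_cast : (w : ℤ) = 2 * a ^ 2 - 1 := by
  have : ((w + 1 : ℕ) : ℤ) = ((2 * a ^ 2 : ℕ) : ℤ) := by rw [C.w_eq]
  push_cast at this; linarith

theorem km_cast : (km : ℤ) = 2 * a ^ 2 + 1 - 2 * a := by
  have : ((km + 2 * a : ℕ) : ℤ) = ((2 * a ^ 2 + 1 : ℕ) : ℤ) := by rw [C.km_eq]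
  push_cast at this; linarith

theorem one_lt_X {k e t : ℕ} (D : TData d o k e t) (ht : 1 ≤ t) : 1 < D.X := by
  rw [← D.deg_mu ⟨0, ht⟩]; exact C.one_lt _ (D.mu_ne _)

/-- The torus of order `q - 1`: one further character. -/
theorem stage_zero {t0 : ℕ} (D : TData d o w 2 t0) (ht : 3 ≤ t0) :
    D.c = 0 ∧ ∃ W, D.R = {W} ∧ D.f W ^ 2 = 1 ∧ 1 + D.eps * D.X + D.f W * d W = 0 := by
  have hX : (1 : ℤ) < D.X := by exact_mod_cast C.one_lt_X D (by omega)
  have ht' : (3 : ℤ) ≤ t0 := by exact_mod_cast ht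
  have hn := D.norm_eq
  have hS : 0 ≤ ∑ χ ∈ D.R, D.f χ ^ 2 := Finset.sum_nonneg fun _ _ => sq_nonneg _
  have hc : D.c = 0 := by
    by_contra hc
    have h1 : 1 ≤ D.c ^ 2 := by
      have : 0 < D.c ^ 2 := by positivity
      omega
    push_cast at hn
    have h2 : (D.c + D.eps) ^ 2 = 0 := by nlinarith [sq_nonneg (D.c + D.eps)]
    have h3 : ∑ χ ∈ D.R, D.f χ ^ 2 = 0 := by nlinarith [sq_nonneg (D.c + D.eps)]
    have hR : D.R = ∅ := by
      rw [← Finset.card_eq_zero]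
      have h4 := D.card_R_le_sum
      omega
    have hd := D.deg_eq
    rw [hR, Finset.sum_empty, show D.c = -D.eps by nlinarith] at hd
    rcases D.eps_eq with e | e <;> rw [e] at hd <;> nlinarith
  refine ⟨hc, ?_⟩
  have h1 : ∑ χ ∈ D.R, D.f χ ^ 2 = 1 := by
    rw [hc] at hn
    rcases D.eps_eq with e | e <;> rw [e] at hn <;> push_cast at hn <;> linarith
  have hcard : D.R.card = 1 := by
    have h2 := D.card_R_le_sum
    rcases Nat.eq_zero_or_pos D.R.card with h | h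
    · rw [Finset.card_eq_zero.1 h, Finset.sum_empty] at h1; omega
    · omega
  obtain ⟨W, hW⟩ := Finset.card_eq_one.1 hcard
  refine ⟨W, hW, ?_, ?_⟩
  · rwa [hW, Finset.sum_singleton] at h1
  · have hd := D.deg_eq
    rw [hW, Finset.sum_singleton, hc] at hd
    linarith

/-- The degree of the characters exceptional for the torus of order `q - 1`. -/
theorem X_zero {t0 np : ℕ} (D0 : TData d o w 2 t0) (Dp : TData d o kp 4 np)
    (Dm : 4 ≤ a → ∃ nm, 2 * nm + a = a ^ 2 ∧ Nonempty (TData d o km 4 nm))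
    (ht0 : t0 + 1 = a ^ 2) (hnp : 2 * np = a ^ 2 + a) : D0.X = 4 * a ^ 4 + 1 := by
  have ha2 := C.two_le
  have ht3 : 3 ≤ t0 := by nlinarith
  obtain ⟨hc, W, hW, hf, hdeg⟩ := C.stage_zero D0 ht3
  have hXN : D0.X ∣ 4 * a ^ 4 * (4 * a ^ 4 + 1) * w := D0.deg_mu ⟨0, by omega⟩ ▸ C.dvd _
  have hsq : t0 * D0.X ^ 2 ≤ 4 * a ^ 4 * (4 * a ^ 4 + 1) * w := by
    rw [← D0.sum_E, ← C.sum]
    exact Finset.sum_le_sum_of_subset (Finset.subset_univ _)
  rcases C.a_cases with ha | ha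
  · subst ha
    obtain rfl : w = 7 := by have := C.w_eq; omega
    obtain rfl : t0 = 3 := by omega
    norm_num at hXN hsq
    have hX : D0.X ≤ 98 := by nlinarith
    have hcg := D0.congr_X
    rw [hc] at hcg
    have hd1 : 1 < D0.X := C.one_lt_X D0 (by omega)
    have hWN : d W ∣ 29120 := by simpa using C.dvd W
    have hWo : W ≠ o := fun h => D0.o_notMem (by rw [hW, h]; simp)
    have hW1 := C.one_lt W hWo
    have hfW : D0.f W = 1 ∨ D0.f W = -1 := sq_eq_one_iff.1 hf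
    norm_num
    rcases D0.eps_eq with e | e <;> rw [e] at hcg hdeg <;> rcases hfW with hf1 | hf1 <;> rw [hf1] at hdeg
    · omega
    · have hd' : d W = D0.X + 1 := by omega
      rw [hd'] at hWN
      have hcg' : 7 ∣ D0.X + 2 := by omega
      generalize D0.X = X at *
      exact absurd hWN ((by decide +kernel :
        ∀ X : ℕ, X < 99 → 1 < X → 7 ∣ X + 2 → X ∣ 29120 → ¬ X + 1 ∣ 29120) X (by omega) hd1 hcg' hXN)
    · have hd' : d W = D0.X - 1 := by omega
      rw [hd'] at hWN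
      have hcg' : 7 ∣ D0.X - 2 := by omega
      generalize D0.X = X at *
      exact ((by decide +kernel :
        ∀ X : ℕ, X < 99 → 2 < X → 7 ∣ X - 2 → X ∣ 29120 → X - 1 ∣ 29120 → X = 65) X (by omega)
        (by omega) hcg' hXN hWN)
    · omega
  · obtain ⟨nm, hnm, ⟨Dm⟩⟩ := Dm ha
    have hk : ∀ (k t : ℕ) (D : TData d o k 4 t), 1 ≤ t → t + 4 < t0 → k ∣ D0.X := by
      intro k t D ht hlt
      by_contra hk
      have h := D.card_le (S := D0.E) (Y := D0.X)
        (fun χ h => ⟨fun e => D0.o_notMem_E (e ▸ h), D0.deg_E h⟩) hk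
      rw [D0.card_E] at h
      have := D.card_R_le ht
      omega
    have h1 : kp * km ∣ D0.X :=
      C.cop.mul_dvd_of_dvd_of_dvd (hk _ _ Dp (by nlinarith) (by nlinarith))
        (hk _ _ Dm (by nlinarith) (by nlinarith))
    rw [C.mul_eq] at h1
    obtain ⟨b, hb⟩ := h1
    have hX1 := C.one_lt_X D0 (by omega)
    rcases b with _ | _ | b
    · simp at hb; omega
    · simpa using hb
    exfalso
    have h2 : 2 * (4 * a ^ 4 + 1) ≤ D0.X := by rw [hb]; nlinarith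
    have h3 : t0 * (2 * (4 * a ^ 4 + 1)) ^ 2 ≤ 4 * a ^ 4 * (4 * a ^ 4 + 1) * w :=
      le_trans (Nat.mul_le_mul_left _ (Nat.pow_le_pow_left h2 2)) hsq
    have h4 : t0 * 4 * (4 * a ^ 4 + 1) ≤ 4 * a ^ 4 * w :=
      le_of_mul_le_mul_right (by linarith [h3]) (show 0 < 4 * a ^ 4 + 1 by positivity)
    have := C.w_eq
    nlinarith [Nat.mul_le_mul (show 16 ≤ a ^ 2 by nlinarith) (le_refl (a ^ 4))]

/-- The degree of the further character of the torus of order `q - 1`. -/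
theorem deg_W {t0 : ℕ} (D0 : TData d o w 2 t0) (ht : 3 ≤ t0) (hX : D0.X = 4 * a ^ 4 + 1) {W : I}
    (hW : D0.R = {W}) : d W = 4 * a ^ 4 := by
  obtain ⟨hc, W', hW', hf, hdeg⟩ := C.stage_zero D0 ht
  obtain rfl : W' = W := Finset.singleton_injective (hW'.symm.trans hW)
  have hcg := D0.congr_X
  rw [hc, hX] at hcg
  push_cast at hcg
  have h2 : (w : ℤ) ∣ 4 * (a : ℤ) ^ 4 - 1 :=
    ⟨2 * a ^ 2 + 1, by rw [C.w_cast]; ring⟩
  have h3 : (w : ℤ) ∣ 2 + 2 * D0.eps := by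
    have := dvd_sub hcg h2; rwa [show 4 * (a : ℤ) ^ 4 + 1 - 0 + 2 * D0.eps - (4 * a ^ 4 - 1) =
      2 + 2 * D0.eps by ring] at this
  have hw := C.seven_le_w
  have he : D0.eps = -1 := by
    rcases D0.eps_eq with e | e
    · rw [e] at h3
      have := eq_zero_of_small h3 (by omega) (by omega)
      omega
    · exact e
  rw [he, hX] at hdeg
  push_cast at hdeg
  have hpos : (0 : ℤ) < a ^ 4 := by have := C.two_le; positivity
  rcases sq_eq_one_iff.1 hf with h | h <;> rw [h] at hdeg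
  · have : ((d W' : ℕ) : ℤ) = ((4 * a ^ 4 : ℕ) : ℤ) := by push_cast; linarith
    exact_mod_cast this
  · have : (0 : ℤ) ≤ (d W' : ℤ) := by positivity
    linarith

/-- For a torus of order `k ∣ q ^ 2 + 1`, a degree divisible by `k` gives a vanishing character. -/
theorem notMem_of_dvd {k t : ℕ} (D : TData d o k 4 t) (ht : 1 ≤ t) (hk : 5 < k) (hc : |D.c| ≤ 1)
    {χ : I} (hχ : k ∣ d χ) : χ ∉ D.E ∧ χ ∉ D.R := by
  have h : (k : ℤ) ∣ (d χ : ℤ) := Int.natCast_dvd_natCast.2 hχ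
  obtain ⟨c1, c2⟩ := abs_le.1 hc
  constructor
  · intro hE
    have hcg := D.congr_X
    push_cast at hcg
    rw [← D.deg_E hE] at hcg
    have h2 := dvd_sub hcg h
    rw [show (d χ : ℤ) - D.c + 4 * D.eps - d χ = 4 * D.eps - D.c by ring] at h2
    rcases D.eps_eq with e | e <;> rw [e] at h2 <;>
      have := eq_zero_of_small h2 (by omega) (by omega) <;> omega
  · intro hR
    have h2 := dvd_sub h (D.congr_R χ hR)
    rw [show (d χ : ℤ) - (d χ - D.f χ) = D.f χ by ring] at h2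
    obtain ⟨f1, f2⟩ := bounds_of_sq_le_four (by exact_mod_cast D.sq_le ht hR : D.f χ ^ 2 ≤ 4)
    exact D.f_ne χ hR (eq_zero_of_small h2 (by omega) (by omega))

/-- A character of degree `q ^ 2` is non-vanishing and not exceptional, with value `-1`. -/
theorem steinberg_mem {k t : ℕ} (D : TData d o k 4 t) (ht : 1 ≤ t) (hk : 5 < k)
    (hc : D.c = 0 ∨ D.c = -D.eps ∧ 6 < k) (hdvd : k ∣ 4 * a ^ 4 + 1) {W : I} (hWo : W ≠ o)
    (hW : d W = 4 * a ^ 4) : W ∈ D.R ∧ D.f W = -1 := by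
  have hq : (k : ℤ) ∣ (d W : ℤ) + 1 := by
    rw [hW]; exact_mod_cast hdvd
  have hnd : ¬ k ∣ d W := fun h => by
    have h2 := dvd_sub hq (Int.natCast_dvd_natCast.2 h)
    rw [add_sub_cancel_left] at h2
    have := eq_zero_of_small h2 (by omega) (by omega)
    omega
  rcases (D.dvd_or_mem hWo).resolve_left hnd with hE | hR
  · exfalso
    have hcg := D.congr_X
    push_cast at hcg
    rw [← D.deg_E hE] at hcg
    have h2 := dvd_sub hcg hq
    rw [show (d W : ℤ) - D.c + 4 * D.eps - (d W + 1) = 4 * D.eps - D.c - 1 by ring] at h2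
    rcases hc with hc | ⟨hc, hk6⟩ <;> rw [hc] at h2 <;>
      rcases D.eps_eq with e | e <;> rw [e] at h2 <;>
      have := eq_zero_of_small h2 (by omega) (by omega) <;> omega
  · refine ⟨hR, ?_⟩
    have h2 := dvd_sub hq (D.congr_R W hR)
    rw [show (d W : ℤ) + 1 - (d W - D.f W) = 1 + D.f W by ring] at h2
    obtain ⟨f1, f2⟩ := bounds_of_sq_le_four (by exact_mod_cast D.sq_le ht hR : D.f W ^ 2 ≤ 4)
    have := eq_zero_of_small h2 (by omega) (by omega)
    omega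

end Ctx

end Cfsg.Agent.BlocksChars.SuzukiDegrees
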