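import Cfsg.Agent.Lib.SmallSimple.Exceptional
import Cfsg.Agent.BlocksChars.Degrees

/-!
# Exceptional family of a self-centralizing subgroup, with the characters themselves

Strengthening of `Exceptional.degree_data`: the family and the other non-vanishing characters are
returned, and every further non-trivial character has degree divisible by `|P|`.
-/

set_option autoImplicit false
set_option linter.style.haveILetI false

namespace Cfsg.Agent.BlocksChars.SuzukiDegrees

/-- What one self-centralizing subgroup of order `k` says about the degree function `d`. -/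
structure TData {I : Type*} (d : I → ℕ) (o : I) (k e t : ℕ) where
  eps : ℤ
  c : ℤ
  mu : Fin t → I
  R : Finset I
  f : I → ℤ
  X : ℕ
  eps_eq : eps = 1 ∨ eps = -1
  inj : Function.Injective mu
  mu_ne : ∀ j, mu j ≠ o
  mu_notMem : ∀ j, mu j ∉ R
  deg_mu : ∀ j, d (mu j) = X
  o_notMem : o ∉ R
  congr_X : (k : ℤ) ∣ (X : ℤ) - c + e * eps
  norm_eq : (c + eps) ^ 2 + ((t : ℤ) - 1) * c ^ 2 + ∑ χ ∈ R, f χ ^ 2 = e
  deg_eq : 1 + ((t : ℤ) * c + eps) * X + ∑ χ ∈ R, f χ * (d χ : ℤ) = 0
  f_ne : ∀ χ ∈ R, f χ ≠ 0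
  congr_R : ∀ χ ∈ R, (k : ℤ) ∣ (d χ : ℤ) - f χ
  dvd_rest : ∀ χ, χ ≠ o → χ ∉ R → (∀ j, mu j ≠ χ) → k ∣ d χ

namespace TData

variable {I : Type*} [DecidableEq I] {d : I → ℕ} {o : I} {k e t : ℕ} (D : TData d o k e t)

/-- The exceptional family. -/
def E : Finset I := Finset.univ.image D.mu

theorem card_E : D.E.card = t := by
  rw [E, Finset.card_image_of_injective _ D.inj, Finset.card_univ, Fintype.card_fin]

theorem mem_E {χ : I} : χ ∈ D.E ↔ ∃ j, D.mu j = χ := by simp [E]

theorem deg_E {χ : I} (h : χ ∈ D.E) : d χ = D.X := by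
  obtain ⟨j, rfl⟩ := D.mem_E.1 h; exact D.deg_mu j

theorem sum_E : ∑ χ ∈ D.E, d χ ^ 2 = t * D.X ^ 2 := by
  rw [Finset.sum_congr rfl fun χ h => by rw [D.deg_E h], Finset.sum_const, D.card_E, smul_eq_mul]

theorem o_notMem_E : o ∉ D.E := fun h => by
  obtain ⟨j, hj⟩ := D.mem_E.1 h; exact D.mu_ne j hj

theorem disjoint : Disjoint D.E D.R := Finset.disjoint_left.2 fun χ h => by
  obtain ⟨j, rfl⟩ := D.mem_E.1 h; exact D.mu_notMem j

theorem dvd_or_mem {χ : I} (h : χ ≠ o) : k ∣ d χ ∨ χ ∈ D.E ∨ χ ∈ D.R := by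
  by_cases h1 : χ ∈ D.R
  · exact Or.inr (Or.inr h1)
  by_cases h2 : χ ∈ D.E
  · exact Or.inr (Or.inl h2)
  exact Or.inl (D.dvd_rest χ h h1 fun j hj => h2 (D.mem_E.2 ⟨j, hj⟩))

theorem sum_sq_le (ht : 1 ≤ t) : ∑ χ ∈ D.R, D.f χ ^ 2 ≤ (e : ℤ) := by
  have h := D.norm_eq
  have h1 : (0 : ℤ) ≤ ((t : ℤ) - 1) * D.c ^ 2 := by
    have : (1 : ℤ) ≤ t := by exact_mod_cast ht
    positivity
  nlinarith [sq_nonneg (D.c + D.eps)]

theorem sq_le (ht : 1 ≤ t) {χ : I} (h : χ ∈ D.R) : D.f χ ^ 2 ≤ (e : ℤ) :=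
  (Finset.single_le_sum (f := fun χ => D.f χ ^ 2) (fun _ _ => sq_nonneg _) h).trans (D.sum_sq_le ht)

theorem one_le_sq {χ : I} (h : χ ∈ D.R) : 1 ≤ D.f χ ^ 2 := by
  have := D.f_ne χ h
  have h1 : 0 < D.f χ ^ 2 := by positivity
  omega

theorem card_R_le_sum : (D.R.card : ℤ) ≤ ∑ χ ∈ D.R, D.f χ ^ 2 := by
  rw [Finset.card_eq_sum_ones, Nat.cast_sum]
  exact Finset.sum_le_sum fun χ h => by simpa using D.one_le_sq h

theorem card_R_le (ht : 1 ≤ t) : D.R.card ≤ e := by
  exact_mod_cast D.card_R_le_sum.trans (D.sum_sq_le ht)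

/-- Characters of one degree not divisible by `k` are few. -/
theorem card_le {S : Finset I} {Y : ℕ} (hS : ∀ χ ∈ S, χ ≠ o ∧ d χ = Y) (hY : ¬ k ∣ Y) :
    S.card ≤ t + D.R.card := by
  calc S.card ≤ (D.E ∪ D.R).card := Finset.card_le_card fun χ h => Finset.mem_union.2
        ((D.dvd_or_mem (hS χ h).1).resolve_left ((hS χ h).2 ▸ hY))
    _ ≤ D.E.card + D.R.card := Finset.card_union_le _ _
    _ = t + D.R.card := by rw [D.card_E]

end TData

open Cfsg.Agent.Characters Cfsg.Agent.OddChar Cfsg.Agent.SmallSimple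
open Cfsg.Agent.SmallSimple.Exceptional

universe u

variable {G : Type u} [Group G] [Fintype G] {P : Subgroup G}

omit [Fintype G] in
/-- The sum of all linear characters at a non-identity element. -/
theorem sum_dual_eq_zero [Finite G] (hP : SelfCent P) [Fintype (P →* ℂˣ)] {y : P} (hy : y ≠ 1) :
    ∑ φ : P →* ℂˣ, (φ y : ℂ) = 0 := by
  letI : CommGroup P := { (inferInstance : Group P) with mul_comm := hP.comm }
  obtain ⟨φ₀, h⟩ := CommGroup.exists_apply_ne_one_of_hasEnoughRootsOfUnity P ℂ hy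
  have h1 : (φ₀ y : ℂ) * ∑ φ : P →* ℂˣ, (φ y : ℂ) = ∑ φ : P →* ℂˣ, (φ y : ℂ) := by
    rw [Finset.mul_sum]
    exact Fintype.sum_equiv (Equiv.mulLeft φ₀) _ _ fun φ => by simp
  by_contra hne
  exact h (Units.ext (mul_left_eq_self₀.1 h1 |>.resolve_right hne))

/-- Values on `P` through the coefficients of one representative per orbit. -/
theorem exists_orbit_sums (hP : SelfCent P) {e t : ℕ}
    (he : P.relIndex (Subgroup.normalizer (P : Set G)) = e) (het : e * t + 1 = Nat.card P)
    (r : Fin t → (P →* ℂˣ)) (hr1 : ∀ i, r i ≠ 1)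
    (hrinj : ∀ i j, SameOrbit P (r i) (r j) → i = j) {y : P} (hy : y ≠ 1) :
    ∃ S : Fin t → ℂ, ∑ i, S i = -1 ∧ ∀ χ : Cfsg.IrrCharacter G,
      (χ : G → ℂ) y = -∑ i, (a P (r i) χ : ℂ) * S i := by
  classical
  haveI : Finite (P →* ℂˣ) := Nat.finite_of_card_ne_zero (by rw [card_dual hP]; exact Nat.card_pos.ne')
  haveI := Fintype.ofFinite (P →* ℂˣ)
  let O : Fin t → Finset (P →* ℂˣ) := fun i => Finset.univ.filter fun φ => SameOrbit P (r i) φ
  have hdisj : ((Finset.univ : Finset (Fin t)) : Set (Fin t)).PairwiseDisjoint O :=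
    fun i _ j _ hij => Finset.disjoint_left.2 fun φ h h' => hij (hrinj i j
      ((sameOrbit_equivalence P).trans (Finset.mem_filter.1 h).2
        ((sameOrbit_equivalence P).symm (Finset.mem_filter.1 h').2)))
  have hU : Finset.univ.biUnion O = Finset.univ.erase (1 : P →* ℂˣ) := by
    refine Finset.eq_of_subset_of_card_le (fun φ hφ => ?_) ?_
    · obtain ⟨i, -, hi⟩ := Finset.mem_biUnion.1 hφ
      obtain ⟨n, rfl⟩ := (Finset.mem_filter.1 hi).2
      exact Finset.mem_erase.2 ⟨conjDual_ne_one n (hr1 i), Finset.mem_univ _⟩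
    · have hc : ∀ i, (O i).card = e := fun i => by
        rw [← Fintype.card_subtype, ← Nat.card_eq_fintype_card, card_orbit hP (hr1 i), he]
      rw [Finset.card_biUnion hdisj, Finset.sum_congr rfl fun i _ => hc i, Finset.sum_const,
        Finset.card_univ, Fintype.card_fin, smul_eq_mul, Finset.card_erase_of_mem (Finset.mem_univ _),
        Finset.card_univ, ← Nat.card_eq_fintype_card, card_dual hP, mul_comm]
      omega
  have h0 : ∑ φ : P →* ℂˣ, (φ y : ℂ) = 0 := sum_dual_eq_zero hP hy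
  refine ⟨fun i => ∑ φ ∈ O i, (φ y : ℂ), ?_, fun χ => ?_⟩
  · rw [← Finset.sum_biUnion hdisj, hU]
    rw [← Finset.add_sum_erase _ _ (Finset.mem_univ (1 : P →* ℂˣ))] at h0
    simp only [MonoidHom.one_apply, Units.val_one] at h0
    linear_combination h0
  · obtain ⟨m, hm, ha⟩ := exists_mult hP χ
    have h1 : ∀ φ, (m φ : ℂ) = (m 1 : ℂ) - (a P φ χ : ℂ) := fun φ => by
      rw [ha]; push_cast; ring
    rw [hm, Finset.sum_congr rfl fun φ _ => by rw [h1, sub_mul], Finset.sum_sub_distrib,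
      ← Finset.mul_sum, h0, mul_zero, zero_sub, ← Finset.add_sum_erase _ _ (Finset.mem_univ (1 : P →* ℂˣ)),
      a_one, Int.cast_zero, zero_mul, zero_add, ← hU, Finset.sum_biUnion hdisj]
    refine congrArg _ (Finset.sum_congr rfl fun i _ => ?_)
    rw [Finset.mul_sum]
    exact Finset.sum_congr rfl fun φ hφ => by rw [a_orbit (Finset.mem_filter.1 hφ).2]

/-- With a single orbit every character is constant on `P#`, the value being congruent to the degree. -/
theorem values_one (hP : SelfCent P) {e : ℕ}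
    (he : P.relIndex (Subgroup.normalizer (P : Set G)) = e) (het : e + 1 = Nat.card P)
    (χ : Cfsg.IrrCharacter G) :
    ∃ f : ℤ, (Nat.card P : ℤ) ∣ (Cfsg.charDegree (χ : G → ℂ) : ℤ) - f ∧
      ∀ y ∈ P, y ≠ 1 → (χ : G → ℂ) y = (f : ℂ) := by
  classical
  haveI : Finite (P →* ℂˣ) := Nat.finite_of_card_ne_zero (by rw [card_dual hP]; exact Nat.card_pos.ne')
  haveI := Fintype.ofFinite (P →* ℂˣ)
  obtain ⟨r, hr1, hrinj, hsum⟩ := exists_reps hP (t := 1) he (by omega)
  refine ⟨a P (r 0) χ, ?_, fun y hy hy1 => ?_⟩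
  · have h := degree_congr hP χ (BlocksChars.Degrees.charDegree_cast χ).symm
    rw [hsum, Fin.sum_univ_one] at h
    have h1 : (e : ℤ) + 1 = (Nat.card P : ℤ) := by exact_mod_cast het
    obtain ⟨k, hk⟩ := h
    exact ⟨k - a P (r 0) χ, by rw [← h1] at hk ⊢; linarith⟩
  · obtain ⟨S, hS, hv⟩ := exists_orbit_sums hP he (t := 1) (by omega) r hr1 hrinj (y := ⟨y, hy⟩)
      (fun h => hy1 (congrArg Subtype.val h))
    rw [Fin.sum_univ_one] at hS
    rw [show (χ : G → ℂ) y = _ from hv χ, Fin.sum_univ_one, hS]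
    ring

/-- The data of a self-centralizing subgroup with at least two orbits of linear characters, with
the values of the characters on the subgroup and their behaviour away from it. -/
theorem exists_tData_values [IsSimpleGroup G] (hG : ¬ IsMulCommutative G) (hP : SelfCent P)
    {e t : ℕ} (he : P.relIndex (Subgroup.normalizer (P : Set G)) = e)
    (het : e * t + 1 = Nat.card P) (ht : 2 ≤ t) :
    ∃ D : TData (fun χ : Cfsg.IrrCharacter G => Cfsg.charDegree (χ : G → ℂ)) (trivIrr G)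
        (Nat.card P) e t,
      (∀ y ∈ P, y ≠ 1 →
        (∑ j, ((D.mu j : Cfsg.IrrCharacter G) : G → ℂ) y = (t : ℂ) * D.c + D.eps) ∧
        (∀ χ ∈ D.R, (χ : G → ℂ) y = (D.f χ : ℂ)) ∧
        ∀ χ, χ ≠ trivIrr G → χ ∉ D.R → (∀ j, D.mu j ≠ χ) → (χ : G → ℂ) y = 0) ∧
      ∀ g : G, (∀ h : G, h⁻¹ * g * h ∉ P) → ∀ i j,
        ((D.mu i : Cfsg.IrrCharacter G) : G → ℂ) g = ((D.mu j : Cfsg.IrrCharacter G) : G → ℂ) g := by
  classical
  haveI := Fintype.ofFinite (Cfsg.IrrCharacter G)
  haveI : Finite (P →* ℂˣ) := Nat.finite_of_card_ne_zero (by rw [card_dual hP]; exact Nat.card_pos.ne')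
  haveI := Fintype.ofFinite (P →* ℂˣ)
  obtain ⟨r, hr1, hrinj, hsum⟩ := exists_reps hP he het
  set deg : Cfsg.IrrCharacter G → ℕ := fun χ => Cfsg.charDegree (χ : G → ℂ)
  have hdeg : ∀ χ : Cfsg.IrrCharacter G, (χ : G → ℂ) 1 = (deg χ : ℂ) := fun χ =>
    (BlocksChars.Degrees.charDegree_cast χ).symm
  haveI : NeZero t := ⟨by omega⟩
  set o : Fin t := 0
  have horbit : ∀ i j, SameOrbit P (r i) (r j) ↔ i = j := fun i j =>
    ⟨hrinj i j, fun h => h ▸ (sameOrbit_equivalence P).refl _⟩
  have hI : ∀ i j, Cfsg.classInner (A P (r i)) (A P (r j)) = (e : ℂ) + if i = j then 1 else 0 := by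
    intro i j
    rw [inner_A_eq hP (hr1 i) (hr1 j), he, if_congr (horbit i j) rfl rfl]
  have hgen : ∀ i, Cfsg.IsGeneralizedCharacter G (A P (r i)) := fun i => A_isGen _
  obtain ⟨ε, μ, hε, hμ, hd⟩ := Lattice.exists_differences o (fun i => A P (r i) - A P (r o))
    (sub_self _) (fun i _ => isGen_sub (hgen i) (hgen o))
    (fun i _ => by simp [A_one])
    (fun i hi => by
      simp only [classInner_sub_left, classInner_sub_right, hI, if_true, if_neg hi, if_neg (Ne.symm hi)]
      ring)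
    (fun i j hi hj hij => by
      simp only [classInner_sub_left, classInner_sub_right, hI, if_true, if_neg hi, if_neg (Ne.symm hj),
        if_neg hij]
      ring)
  have hε0 : ε ≠ 0 := by rcases hε with h | h <;> omega
  let f : Cfsg.IrrCharacter G → Fin t → ℤ := fun χ i => a P (r i) χ
  have hrel : ∀ χ i, f χ i = f χ o + ε * ((if μ i = χ then 1 else 0) - (if μ o = χ then 1 else 0)) := by
    intro χ i
    have h := congrArg (fun θ : G → ℂ => Cfsg.classInner θ (χ : G → ℂ)) (hd i)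
    simp only [classInner_sub_left, classInner_smul_left, classInner_irr,
      Lattice.coeff_spec (hgen _)] at h
    have h' : ((f χ i : ℤ) : ℂ) - (f χ o : ℂ) =
        ((ε * ((if μ i = χ then 1 else 0) - (if μ o = χ then 1 else 0)) : ℤ) : ℂ) := by
      push_cast; exact h
    rw [← Int.cast_sub, Int.cast_inj] at h'
    linarith
  set c : ℤ := f (μ o) o - ε with hc
  have hkey : ∀ j, j ≠ o → f (μ j) o = c := by
    intro j hj
    have h := congrArg (fun θ : G → ℂ => Cfsg.classInner θ (A P (r o))) (hd j)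
    simp only [classInner_sub_left, classInner_smul_left, hI, if_true, if_neg hj] at h
    rw [classInner_conj_symm (A P (r o)) (μ j : G → ℂ), classInner_conj_symm (A P (r o)) (μ o : G → ℂ),
      Lattice.coeff_spec (hgen o), Lattice.coeff_spec (hgen o), map_intCast, map_intCast] at h
    have h' : (-1 : ℤ) = ε * (f (μ j) o - f (μ o) o) := by
      have h2 : ((-1 : ℤ) : ℂ) = ((ε * (f (μ j) o - f (μ o) o) : ℤ) : ℂ) := by
        push_cast; simp only [f, a]; linear_combination h
      exact_mod_cast h2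
    rcases hε with h1 | h1 <;> rw [h1] at h' <;> rw [hc, h1] <;> linarith
  have hμval : ∀ j i, f (μ j) i = c + if i = j then ε else 0 := by
    intro j i
    rw [hrel, if_congr (hμ.eq_iff) rfl rfl, if_congr (hμ.eq_iff) rfl rfl]
    by_cases hj : j = o
    · subst hj
      rw [if_pos rfl, show f (μ o) o = c + ε by omega]
      split_ifs <;> ring
    · rw [hkey j hj, if_neg (Ne.symm hj)]
      split_ifs <;> ring
  have htriv : ∀ i, f (trivIrr G) i = 1 := fun i =>
    Lattice.coeff_eq_of_inner (by simpa using inner_A_one (hr1 i))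
  have hμne : ∀ j, μ j ≠ trivIrr G := by
    intro j hj
    obtain ⟨k, hk⟩ : ∃ k : Fin t, k ≠ j := by
      by_cases h : j = o
      · exact ⟨⟨1, by omega⟩, by subst h; simp [o, Fin.ext_iff]⟩
      · exact ⟨o, Ne.symm h⟩
    have h1 := hμval j j
    have h2 := hμval j k
    rw [hj, htriv, if_pos rfl] at h1
    rw [hj, htriv, if_neg hk] at h2
    omega
  set E : Finset (Cfsg.IrrCharacter G) := Finset.univ.image μ with hE
  set R := ((Finset.univ.erase (trivIrr G)) \ E).filter (fun χ => f χ o ≠ 0) with hR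
  have hsplit : ∀ {M : Type} [AddCommMonoid M] (F : Cfsg.IrrCharacter G → M),
      ∑ χ, F χ = F (trivIrr G) + ∑ j, F (μ j) + ∑ χ ∈ (Finset.univ.erase (trivIrr G)) \ E, F χ := by
    intro M _ F
    rw [← Finset.add_sum_erase _ _ (Finset.mem_univ (trivIrr G)), add_assoc]
    congr 1
    rw [← Finset.sum_image (f := F) (g := μ) (s := Finset.univ) (fun a _ b _ h => hμ h), ← hE,
      add_comm, Finset.sum_sdiff]
    intro χ hχ
    obtain ⟨j, -, rfl⟩ := Finset.mem_image.1 hχ
    exact Finset.mem_erase.2 ⟨hμne j, Finset.mem_univ _⟩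
  have hdtriv : deg (trivIrr G) = 1 := by
    have h := hdeg (trivIrr G)
    simp only [trivIrr_coe] at h
    exact_mod_cast h.symm
  have hX : ∀ j, deg (μ j) = deg (μ o) := by
    intro j
    have h := congrFun (hd j) 1
    simp only [Pi.sub_apply, A_one, sub_self, Pi.smul_apply, smul_eq_mul, hdeg] at h
    rcases mul_eq_zero.1 h.symm with h0 | h0
    · exact absurd (Int.cast_eq_zero.1 h0) hε0
    · exact_mod_cast sub_eq_zero.1 h0
  have hdvd : ∀ χ : Cfsg.IrrCharacter G, deg χ ∣ Nat.card G := fun χ => by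
    obtain ⟨d, hd1, -, hd2⟩ := irr_degree_dvd_card χ.2
    have : deg χ = d := by exact_mod_cast (hdeg χ).symm.trans hd1
    exact this ▸ hd2
  have hP1 : (Nat.card P : ℤ) = (e : ℤ) * t + 1 := by exact_mod_cast het.symm
  have hone : ∑ i : Fin t, (if i = o then ε else 0) = ε := by simp
  have hgenR : ∀ χ, χ ≠ trivIrr G → (∀ j, μ j ≠ χ) →
      (Nat.card P : ℤ) ∣ (deg χ : ℤ) - f χ o := by
    intro χ hne hnot
    have h := degree_congr hP χ (hdeg χ)
    rw [hsum, Finset.sum_congr rfl fun i _ => show a P (r i) χ = f χ o by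
      rw [show a P (r i) χ = f χ i from rfl, hrel, if_neg (hnot i), if_neg (hnot o)]; ring] at h
    simp only [Finset.sum_const, Finset.card_univ, Fintype.card_fin, nsmul_eq_mul] at h
    obtain ⟨k, hk⟩ := h
    exact ⟨k - f χ o, by rw [hP1] at hk ⊢; linarith⟩
  have hmemR : ∀ χ ∈ R, χ ≠ trivIrr G ∧ (∀ j, μ j ≠ χ) ∧ f χ o ≠ 0 := by
    intro χ hχ
    simp only [hR, Finset.mem_filter, Finset.mem_sdiff, Finset.mem_erase, hE, Finset.mem_image,
      Finset.mem_univ, true_and, and_true, not_exists] at hχ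
    exact ⟨hχ.1.1, hχ.1.2, hχ.2⟩
  have hconst : ∀ χ, (∀ j, μ j ≠ χ) → ∀ i, f χ i = f χ o := fun χ hnot i => by
    rw [hrel, if_neg (hnot i), if_neg (hnot o)]; ring
  refine ⟨{
    eps := ε, c := c, mu := μ, R := R, f := fun χ => f χ o, X := deg (μ o)
    eps_eq := hε, inj := hμ, mu_ne := hμne, deg_mu := hX
    mu_notMem := fun j hj => (hmemR _ hj).2.1 j rfl
    o_notMem := fun h => (hmemR _ h).1 rfl
    congr_X := ?_, norm_eq := ?_, deg_eq := ?_
    f_ne := fun χ h => (hmemR χ h).2.2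
    congr_R := fun χ h => hgenR χ (hmemR χ h).1 (hmemR χ h).2.1
    dvd_rest := ?_ }, fun y hy hy1 => ?_, fun g hg i j => ?_⟩
  · have h := degree_congr hP (μ o) (hdeg _)
    rw [hsum, Finset.sum_congr rfl fun i _ => hμval o i, Finset.sum_add_distrib, hone] at h
    simp only [Finset.sum_const, Finset.card_univ, Fintype.card_fin, nsmul_eq_mul] at h
    obtain ⟨k, hk⟩ := h
    exact ⟨k - c, by rw [hP1] at hk ⊢; linarith⟩
  · show _ + ∑ χ ∈ R, f χ o ^ 2 = _
    rw [hR, Finset.sum_filter_of_ne (by intro χ _ h e; simp [e] at h)]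
    have h := Lattice.sum_sq_of_norm (hgen o) (n := (e : ℤ) + 1) (by rw [hI, if_pos rfl]; push_cast; rfl)
    change ∑ χ, f χ o ^ 2 = _ at h
    rw [hsplit, htriv, Finset.sum_congr rfl fun j _ => show f (μ j) o ^ 2 = c ^ 2 +
      if j = o then (c + ε) ^ 2 - c ^ 2 else 0 by
        rw [hμval, if_congr (eq_comm (a := o) (b := j)) rfl rfl]; split_ifs <;> ring,
      Finset.sum_add_distrib, Finset.sum_const, Finset.card_univ, Fintype.card_fin,
      Finset.sum_ite_eq', if_pos (Finset.mem_univ o), nsmul_eq_mul] at h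
    linarith
  · show _ + ∑ χ ∈ R, f χ o * (deg χ : ℤ) = 0
    rw [hR, Finset.sum_filter_of_ne (by intro χ _ h e; simp [e] at h)]
    have h : ∑ χ, f χ o * (deg χ : ℤ) = 0 := by
      have := Lattice.apply_eq_sum (hgen o) 1
      rw [A_one] at this
      simp only [hdeg] at this
      exact_mod_cast this.symm
    rw [hsplit, htriv, hdtriv, Finset.sum_congr rfl fun j _ => show f (μ j) o * (deg (μ j) : ℤ) =
      c * deg (μ o) + if j = o then ε * deg (μ o) else 0 by
        rw [hμval, hX, if_congr (eq_comm (a := o) (b := j)) rfl rfl]; split_ifs <;> ring,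
      Finset.sum_add_distrib, Finset.sum_const, Finset.card_univ, Fintype.card_fin,
      Finset.sum_ite_eq', if_pos (Finset.mem_univ o), nsmul_eq_mul] at h
    push_cast at h
    linarith
  · intro χ hne hnR hnot
    have h0 : f χ o = 0 := by
      by_contra hf
      refine hnR ?_
      simp only [hR, Finset.mem_filter, Finset.mem_sdiff, Finset.mem_erase, hE, Finset.mem_image,
        Finset.mem_univ, true_and, and_true, not_exists]
      exact ⟨⟨hne, hnot⟩, hf⟩
    have h := hgenR χ hne hnot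
    rw [h0, sub_zero, Int.natCast_dvd_natCast] at h
    exact h
  · obtain ⟨S, hS, hv⟩ := exists_orbit_sums hP he het r hr1 hrinj (y := ⟨y, hy⟩)
      (fun h => hy1 (congrArg Subtype.val h))
    have hval : ∀ χ, (∀ j, μ j ≠ χ) → (χ : G → ℂ) y = (f χ o : ℂ) := fun χ hnot => by
      rw [show (χ : G → ℂ) y = _ from hv χ,
        Finset.sum_congr rfl fun i _ => show (a P (r i) χ : ℂ) * S i = (f χ o : ℂ) * S i by
          rw [← hconst χ hnot i], ← Finset.mul_sum, hS]
      ring
    refine ⟨?_, fun χ hχ => hval χ (hmemR χ hχ).2.1, fun χ hne hnR hnot => ?_⟩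
    · show ∑ j, (μ j : G → ℂ) y = (t : ℂ) * c + ε
      have hj : ∀ j, (μ j : G → ℂ) y = c - ε * S j := fun j => by
        rw [show (μ j : G → ℂ) y = _ from hv (μ j),
          Finset.sum_congr rfl fun i _ => show (a P (r i) (μ j) : ℂ) * S i =
              (c : ℂ) * S i + if i = j then (ε : ℂ) * S j else 0 by
            rw [show a P (r i) (μ j) = f (μ j) i from rfl, hμval]
            split_ifs with hij
            · subst hij; push_cast; ring
            · simp,
          Finset.sum_add_distrib, ← Finset.mul_sum, hS, Finset.sum_ite_eq', if_pos (Finset.mem_univ j)]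
        ring
      rw [Finset.sum_congr rfl fun j _ => hj j, Finset.sum_sub_distrib, ← Finset.mul_sum, hS,
        Finset.sum_const, Finset.card_univ, Fintype.card_fin, nsmul_eq_mul]
      ring
    · rw [hval χ hnot]
      have h0 : f χ o = 0 := by
        by_contra hf
        refine hnR ?_
        simp only [hR, Finset.mem_filter, Finset.mem_sdiff, Finset.mem_erase, hE, Finset.mem_image,
          Finset.mem_univ, true_and, and_true, not_exists]
        exact ⟨⟨hne, hnot⟩, hf⟩
      simp [h0]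
  · have hzero : ∀ φ : P →* ℂˣ, A P φ g = 0 := fun φ => Induce.indFun_eq_zero _ _ _ fun x =>
      Cfsg.Agent.CharTheory.IndBasic.extendByZero_of_notMem P _ (hg x)
    have key : ∀ i, (μ i : G → ℂ) g = (μ o : G → ℂ) g := fun i => by
      have h := congrFun (hd i) g
      simp only [Pi.sub_apply, hzero, sub_self, Pi.smul_apply, smul_eq_mul] at h
      rcases mul_eq_zero.1 h.symm with h0 | h0
      · exact absurd (Int.cast_eq_zero.1 h0) hε0
      · exact sub_eq_zero.1 h0
    exact (key i).trans (key j).symm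

/-- The data alone. -/
theorem exists_tData [IsSimpleGroup G] (hG : ¬ IsMulCommutative G) (hP : SelfCent P) {e t : ℕ}
    (he : P.relIndex (Subgroup.normalizer (P : Set G)) = e) (het : e * t + 1 = Nat.card P)
    (ht : 2 ≤ t) :
    Nonempty (TData (fun χ : Cfsg.IrrCharacter G => Cfsg.charDegree (χ : G → ℂ)) (trivIrr G)
      (Nat.card P) e t) :=
  let ⟨D, _⟩ := exists_tData_values hG hP he het ht
  ⟨D⟩

end Cfsg.Agent.BlocksChars.SuzukiDegrees
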