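import Cfsg.Agent.BlocksChars.SuzukiDegrees.Range
import Cfsg.Agent.Lib.Suzuki.TorusType
import Cfsg.Agent.Lib.Suzuki.LieEquiv
import Cfsg.Agent.BlocksChars.SL2Degrees

/-!
# The irreducible character degrees of `Sz(q)`
-/

set_option autoImplicit false
set_option linter.unusedSectionVars false
set_option linter.style.haveILetI false

namespace Cfsg.Agent.BlocksChars.SuzukiDegrees

open Cfsg.Agent.Suzuki Cfsg.Agent.Characters

theorem sq_add_sq_eq (m : ℕ) : ∀ x y : ℕ, x ^ 2 + y ^ 2 = 2 * (2 ^ m) ^ 2 → x = 2 ^ m := by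
  induction m with
  | zero =>
    intro x y h
    norm_num at h ⊢
    have hx : x ≤ 1 := by nlinarith
    have hy : y ≤ 1 := by nlinarith
    interval_cases x <;> interval_cases y <;> omega
  | succ m ih =>
    intro x y h
    have h0 : 4 ∣ x ^ 2 + y ^ 2 := ⟨2 * (2 ^ m) ^ 2, by rw [h, pow_succ]; ring⟩
    have h4 : ((x % 4) ^ 2 + (y % 4) ^ 2) % 4 = 0 := by
      rw [← Nat.dvd_iff_mod_eq_zero]
      refine (Nat.dvd_iff_mod_eq_zero).2 ?_
      have := Nat.dvd_iff_mod_eq_zero.1 h0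
      rw [Nat.add_mod, Nat.pow_mod] at this ⊢
      simpa [Nat.pow_mod] using this
    have hx : x % 4 < 4 := Nat.mod_lt _ (by norm_num)
    have hy : y % 4 < 4 := Nat.mod_lt _ (by norm_num)
    have he : x % 2 = 0 ∧ y % 2 = 0 := by
      rw [← Nat.mod_mod_of_dvd x (show 2 ∣ 4 by norm_num), ← Nat.mod_mod_of_dvd y (show 2 ∣ 4 by norm_num)]
      generalize x % 4 = a, y % 4 = b at *
      interval_cases a <;> interval_cases b <;> simp_all
    obtain ⟨x', rfl⟩ : 2 ∣ x := Nat.dvd_of_mod_eq_zero he.1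
    obtain ⟨y', rfl⟩ : 2 ∣ y := Nat.dvd_of_mod_eq_zero he.2
    have : x' ^ 2 + y' ^ 2 = 2 * (2 ^ m) ^ 2 := by
      rw [pow_succ 2 m] at h
      linarith [h, show (2 * x') ^ 2 = 4 * x' ^ 2 by ring, show (2 * y') ^ 2 = 4 * y' ^ 2 by ring,
        show (2 ^ m * 2) ^ 2 = 4 * (2 ^ m) ^ 2 by ring]
    rw [ih x' y' this, pow_succ, mul_comm]

variable {F : Type*} [Field F] [Fintype F] [CharP F 2] {m : ℕ}

/-- The irreducible character degrees of `Sz(q)`, with `a = 2 ^ m`. -/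
theorem degShape_Sz (hm : 1 ≤ m) (hF : Fintype.card F = 2 ^ (2 * m + 1)) :
    DegShape (Cfsg.charDegrees (Cfsg.Sz F m)) (2 ^ m) (2 ^ (2 * m + 1) - 1) (kPlus m) (kMinus m) := by
  classical
  haveI := isSimple (F := F) hm hF
  haveI := Fintype.ofFinite (Cfsg.Sz F m)
  haveI := Fintype.ofFinite (Cfsg.IrrCharacter (Cfsg.Sz F m))
  obtain ⟨b, hb⟩ : ∃ b, 2 ^ m = 2 * b := ⟨2 ^ (m - 1), by
    rw [← pow_succ']; congr 1; omega⟩
  have hb1 : 1 ≤ b := by have := Nat.one_le_two_pow (n := m); omega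
  set a := 2 ^ m with ha
  have hq : 2 ^ (2 * m + 1) = 2 * a ^ 2 := by rw [ha, pow_succ', ← pow_mul, mul_comm m 2]
  have hr : 2 ^ (m + 1) = 2 * a := by rw [ha, pow_succ']
  set q := 2 ^ (2 * m + 1) with hqd
  have hq8 : 8 ≤ q := by nlinarith
  have hkp : kPlus m = 2 * a ^ 2 + 2 * a + 1 := by rw [kPlus, ← hqd, hq, hr]
  have hkm : kMinus m + 2 * a = 2 * a ^ 2 + 1 := by
    have := two_mul_r_le hm
    rw [← hqd, hr] at this
    rw [kMinus, ← hqd, hr, hq]
    omega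
  have hw : q - 1 + 1 = 2 * a ^ 2 := by omega
  have hN : Nat.card (Cfsg.Sz F m) = 4 * a ^ 4 * (4 * a ^ 4 + 1) * (q - 1) := by
    rw [card_eq hm hF, hF, show q ^ 2 = 4 * a ^ 4 by rw [hq]; ring]
  have hnc : ¬ IsMulCommutative (Cfsg.Sz F m) := fun h => by
    have hT := isTor_torusSubgroup (F := F) (m := m) hm hF
    obtain ⟨t, ht, ht1⟩ := (torusSubgroup (m := m) hF).bot_or_exists_ne_one.resolve_left hT.1
    have htop : torusSubgroup (m := m) hF = ⊤ := by
      rw [← hT.2.2.2 t ht ht1]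
      exact eq_top_iff.2 fun x _ => Subgroup.mem_centralizer_singleton_iff.2 (h.is_comm.comm _ _)
    have hc := card_torusSubgroup (m := m) hF
    rw [htop, Subgroup.card_top, hN, hF] at hc
    have h1 : 2 * (q - 1) ≤ 4 * a ^ 4 * (4 * a ^ 4 + 1) * (q - 1) :=
      Nat.mul_le_mul_right _ (by
        have ha4 : 0 < a ^ 4 := by positivity
        exact le_trans (show 2 ≤ 4 * a ^ 4 by omega) (Nat.le_mul_of_pos_right _ (by positivity)))
    omega
  have hdata : ∀ (T : Subgroup (Cfsg.Sz F m)) (k e t : ℕ), IsTor T → Nat.card T = k →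
      Nat.card (Subgroup.normalizer (T : Set (Cfsg.Sz F m))) = e * k → e * t + 1 = k → 2 ≤ t →
      Nonempty (TData (fun χ : Cfsg.IrrCharacter (Cfsg.Sz F m) =>
        Cfsg.charDegree (χ : Cfsg.Sz F m → ℂ)) (trivIrr (Cfsg.Sz F m)) k e t) := by
    intro T k e t hT hk hn het ht
    subst hk
    refine exists_tData hnc ⟨hT.1, hT.2.2.2⟩ ?_ het ht
    have h := Subgroup.relIndex_mul_relIndex ⊥ T (Subgroup.normalizer (T : Set (Cfsg.Sz F m))) bot_le
      Subgroup.le_normalizer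
    rw [Subgroup.relIndex_bot_left, Subgroup.relIndex_bot_left, hn, mul_comm e] at h
    exact Nat.eq_of_mul_eq_mul_left Nat.card_pos h
  obtain ⟨x, x', hx, hx', e1, e2, n1, n2, -⟩ := exists_two_tori (F := F) hm hF
  obtain ⟨D0⟩ := hdata _ (q - 1) 2 (a ^ 2 - 1) (isTor_torusSubgroup hm hF)
    (by rw [card_torusSubgroup, hF]) (by rw [card_normalizer_torusSubgroup hm hF, hF])
    (by have : 4 ≤ a ^ 2 := by nlinarith
        omega) (by
      have : 4 ≤ a ^ 2 := by nlinarith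
      omega)
  obtain ⟨Dp⟩ := hdata _ (kPlus m) 4 (2 * b ^ 2 + b) (isTor_of_fpf hm hF hx) e1 n1
    (by rw [hkp, hb]; ring) (by nlinarith)
  have hcop : ∀ k, k ∣ q ^ 2 + 1 → k.Coprime (q - 1) := by
    intro k hk
    have h := coprime_stabilizer (F := F) hm hF
    rw [hF] at h
    exact (h.coprime_mul_left.coprime_dvd_right hk).symm
  have hC : Ctx (fun χ : Cfsg.IrrCharacter (Cfsg.Sz F m) =>
      Cfsg.charDegree (χ : Cfsg.Sz F m → ℂ)) (trivIrr (Cfsg.Sz F m)) a (q - 1) (kPlus m)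
        (kMinus m) := by
    have htriv : Cfsg.charDegree ((trivIrr (Cfsg.Sz F m) : Cfsg.IrrCharacter _) :
        Cfsg.Sz F m → ℂ) = 1 := by
      have h := BlocksChars.Degrees.charDegree_cast (trivIrr (Cfsg.Sz F m))
      simp only [trivIrr_coe] at h ⊢
      exact_mod_cast h
    refine
      { a_cases := ?_, w_eq := hw, kp_eq := hkp, km_eq := hkm, d_o := htriv
        one_lt := fun χ hne => SmallSimple.Exceptional.degree_ne_one hnc hne
          (BlocksChars.Degrees.charDegree_cast χ).symm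
        dvd := fun χ => hN ▸ BlocksChars.Degrees.charDegree_dvd_card χ
        sum := ?_
        cop := coprime_kPlus_kMinus hm
        copp := hcop _ ⟨_, (kPlus_mul_kMinus hm).symm⟩
        copm := hcop _ ⟨_, by rw [mul_comm]; exact (kPlus_mul_kMinus hm).symm⟩
        oddp := odd_kPlus hm, oddm := odd_kMinus hm }
    · rcases (by omega : m = 1 ∨ 2 ≤ m) with rfl | h
      · exact Or.inl rfl
      · exact Or.inr (by
          calc 4 = 2 ^ 2 := rfl
            _ ≤ 2 ^ m := Nat.pow_le_pow_right (by norm_num) h)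
    · have h := sum_degree_sq (G := Cfsg.Sz F m)
      simp only [← BlocksChars.Degrees.charDegree_cast] at h
      rw [← hN]
      exact_mod_cast h
  have hDm : 4 ≤ a → ∃ nm, 2 * nm + a = a ^ 2 ∧ Nonempty (TData
      (fun χ : Cfsg.IrrCharacter (Cfsg.Sz F m) => Cfsg.charDegree (χ : Cfsg.Sz F m → ℂ))
      (trivIrr (Cfsg.Sz F m)) (kMinus m) 4 nm) := by
    intro h4
    obtain ⟨c, rfl⟩ : ∃ c, b = c + 1 := ⟨b - 1, by omega⟩
    refine ⟨2 * c ^ 2 + 3 * c + 1, by rw [hb]; ring, hdata _ _ _ _ (isTor_of_fpf hm hF hx') e2 n2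
      ?_ (by nlinarith)⟩
    have h5 : 4 * (2 * c ^ 2 + 3 * c + 1) + 1 + 2 * a = 2 * a ^ 2 + 1 := by rw [hb]; ring
    omega
  have ha2 : 4 ≤ a ^ 2 := by nlinarith
  have hnp : 2 * (2 * b ^ 2 + b) = a ^ 2 + a := by rw [hb]; ring
  have hX := hC.X_zero D0 Dp hDm (by omega) hnp
  rcases hC.a_cases with h2 | h4
  · exact hC.shape_of_two h2 D0 Dp (by omega) hnp hX
  · obtain ⟨nm, hnm, ⟨Dm⟩⟩ := hDm h4
    exact hC.shape_of_four_le h4 D0 Dp Dm (by omega) hnp hnm hX (sq_add_sq_eq m)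

end Cfsg.Agent.BlocksChars.SuzukiDegrees
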