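import Cfsg.Agent.BlocksChars.SuzukiDegrees.Arith

/-!
# The degree set of `Sz(q)` from the data of its three tori
-/

set_option autoImplicit false
set_option linter.unusedSectionVars false

namespace Cfsg.Agent.BlocksChars.SuzukiDegrees

variable {I : Type*} [Fintype I] [DecidableEq I] {d : I → ℕ} {o : I} {a w kp km : ℕ}

/-- The six degrees. -/
def DegShape (D : Set ℕ) (a w kp km : ℕ) : Prop :=
  (∀ x ∈ D, x = 1 ∨ x = 4 * a ^ 4 ∨ x = 4 * a ^ 4 + 1 ∨ x = w * kp ∨ x = w * km ∨ x = w * a) ∧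
    4 * a ^ 4 ∈ D ∧ 4 * a ^ 4 + 1 ∈ D ∧ w * kp ∈ D ∧ w * km ∈ D ∧ w * a ∈ D

/-- The coefficient of a family of degree `w * k' * u` is forced to be `1`. -/
theorem u_eq_one {k k' n u : ℕ} {ε z : ℤ} (hε : ε = 1 ∨ ε = -1) (hk : Odd k) (h5 : 5 ≤ k)
    (hid : (w : ℤ) * k' + 4 = k * z) (hdvd : (k : ℤ) ∣ (w : ℤ) * k' * u + 4 * ε) (hu : 0 < u)
    {B : ℕ} (hB : n * (k' * u) ^ 2 ≤ B) (hlt : B < n * (k' * 4) ^ 2) : u = 1 ∧ ε = 1 := by
  have h2 : (k : ℤ) ∣ 4 * (ε - u) := by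
    have h3 : (k : ℤ) ∣ ((w : ℤ) * k' + 4) * u := ⟨z * u, by rw [hid]; ring⟩
    have := dvd_sub hdvd h3
    rwa [show (w : ℤ) * k' * u + 4 * ε - ((w : ℤ) * k' + 4) * u = 4 * (ε - u) by ring] at this
  have h4 : (k : ℤ) ∣ ε - u := by
    refine Int.dvd_of_dvd_mul_right_of_gcd_one h2 ?_
    rw [show (4 : ℤ) = ((4 : ℕ) : ℤ) from rfl, Int.gcd_natCast_natCast]
    exact (Nat.coprime_two_right.2 hk).pow_right 2
  have hu4 : u < 4 := by
    by_contra h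
    have : (k' * 4) ^ 2 ≤ (k' * u) ^ 2 :=
      Nat.pow_le_pow_left (Nat.mul_le_mul_left _ (by omega)) 2
    nlinarith [Nat.mul_le_mul_left n this]
  rcases hε with e | e <;> rw [e] at h4 <;>
    have := eq_zero_of_small h4 (by omega) (by omega) <;> omega

namespace Ctx

variable (C : Ctx d o a w kp km)
include C

theorem five_le_km : 5 ≤ km := by
  have := C.sq_le_km; have := C.two_le; nlinarith

theorem coprime_w {k : ℕ} (hk : k = kp ∨ k = km) : k.Coprime w := by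
  rcases hk with rfl | rfl
  exacts [C.copp, C.copm]

/-- The characters outside `1`, the one of degree `q ^ 2` and the family of degree `q ^ 2 + 1`. -/
theorem others {t0 : ℕ} (D0 : TData d o w 2 t0) (ht0 : t0 + 1 = a ^ 2)
    (hX : D0.X = 4 * a ^ 4 + 1) {W : I} (hW : D0.R = {W}) :
    ∃ O : Finset I, (∀ χ, χ ∈ O ↔ χ ≠ o ∧ χ ≠ W ∧ χ ∉ D0.E) ∧ (∀ χ ∈ O, w ∣ d χ) ∧
      (∑ χ ∈ O, (d χ : ℤ) ^ 2) = (w : ℤ) ^ 2 * (4 * a ^ 6 - a ^ 2) := by
  have ht3 : 3 ≤ t0 := by have := C.two_le; nlinarith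
  have hWo : W ≠ o := fun h => D0.o_notMem (by rw [hW, h]; simp)
  have hWE : W ∉ D0.E := fun h => Finset.disjoint_left.1 D0.disjoint h (by rw [hW]; simp)
  refine ⟨(insert o (insert W D0.E))ᶜ, fun χ => by simp, fun χ hχ => ?_, ?_⟩
  · simp only [Finset.mem_compl, Finset.mem_insert, not_or] at hχ
    obtain ⟨h1, h2, h3⟩ := hχ
    exact (D0.dvd_or_mem h1).resolve_right (by rw [hW]; simp [h2, h3])
  · have hs : ((∑ χ, d χ ^ 2 : ℕ) : ℤ) = ((4 * a ^ 4 * (4 * a ^ 4 + 1) * w : ℕ) : ℤ) := by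
      rw [C.sum]
    rw [← Finset.sum_add_sum_compl (insert o (insert W D0.E)),
      Finset.sum_insert (by simp [hWo.symm, D0.o_notMem_E]), Finset.sum_insert hWE, D0.sum_E,
      C.d_o, C.deg_W D0 ht3 hX hW, hX] at hs
    push_cast at hs
    rw [C.w_cast] at hs ⊢
    have ht : (t0 : ℤ) = a ^ 2 - 1 := by
      have : ((t0 + 1 : ℕ) : ℤ) = ((a ^ 2 : ℕ) : ℤ) := by rw [ht0]
      push_cast at this; linarith
    rw [ht] at hs
    linear_combination hs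

theorem shape_of_two {t0 np : ℕ} (ha : a = 2) (D0 : TData d o w 2 t0) (Dp : TData d o kp 4 np)
    (ht0 : t0 + 1 = a ^ 2) (hnp : 2 * np = a ^ 2 + a) (hX : D0.X = 4 * a ^ 4 + 1) :
    DegShape (Set.range d) a w kp km := by
  subst ha
  obtain rfl : w = 7 := by have := C.w_eq; omega
  obtain rfl : kp = 13 := by have := C.kp_eq; omega
  obtain rfl : km = 5 := by have := C.km_eq; omega
  obtain rfl : t0 = 3 := by omega
  obtain rfl : np = 3 := by omega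
  obtain ⟨-, W, hW, -, -⟩ := C.stage_zero D0 (by norm_num)
  have hWo : W ≠ o := fun h => D0.o_notMem (by rw [hW, h]; simp)
  have hdW : d W = 64 := by simpa using C.deg_W D0 (by norm_num) hX hW
  have hE0 : ∀ χ ∈ D0.E, d χ = 65 := fun χ h => by rw [D0.deg_E h, hX]; norm_num
  obtain ⟨O, hO, hOw, hsum⟩ := C.others D0 ht0 hX hW
  norm_num at hsum
  have hsumN : ∑ χ ∈ O, d χ ^ 2 = 12348 := by exact_mod_cast hsum
  have hcc : Dp.c = 0 ∨ Dp.c = -Dp.eps ∧ 6 < 13 := by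
    have hn := Dp.norm_eq
    have hS : 0 ≤ ∑ χ ∈ Dp.R, Dp.f χ ^ 2 := Finset.sum_nonneg fun _ _ => sq_nonneg _
    push_cast at hn
    have h1 : -1 ≤ Dp.c := by nlinarith [sq_nonneg (Dp.c + Dp.eps)]
    have h2 : Dp.c ≤ 1 := by nlinarith [sq_nonneg (Dp.c + Dp.eps)]
    rcases Dp.eps_eq with e | e <;> rw [e] at hn ⊢ <;>
      obtain h | h | h : Dp.c = -1 ∨ Dp.c = 0 ∨ Dp.c = 1 := by omega
    all_goals rw [h] at hn ⊢
    all_goals first
      | (left; rfl)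
      | (right; norm_num; done)
      | (exfalso; norm_num at hn; linarith)
  have hcabs : |Dp.c| ≤ 1 := by
    rcases hcc with h | ⟨h, -⟩
    · simp [h]
    · rcases Dp.eps_eq with e | e <;> simp [h, e]
  obtain ⟨hWR, hfW⟩ := C.steinberg_mem Dp (by norm_num) (by norm_num) hcc (by norm_num) hWo
    (by rw [hdW]; norm_num)
  have hEO : ∀ χ, χ ∈ Dp.E ∨ χ ∈ Dp.R ∧ χ ≠ W → χ ∈ O := by
    intro χ hχ
    refine (hO χ).2 ⟨?_, ?_, ?_⟩
    · rintro rfl
      rcases hχ with h | h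
      exacts [Dp.o_notMem_E h, Dp.o_notMem h.1]
    · rintro rfl
      rcases hχ with h | h
      exacts [Finset.disjoint_left.1 Dp.disjoint h hWR, h.2 rfl]
    · intro h
      obtain ⟨h1, h2⟩ := C.notMem_of_dvd Dp (by norm_num) (by norm_num) hcabs (χ := χ)
        (by rw [hE0 χ h]; norm_num)
      rcases hχ with h' | h'
      exacts [h1 h', h2 h'.1]
  obtain ⟨x, hx⟩ : 7 ∣ Dp.X := by
    rw [← Dp.deg_mu 0]; exact hOw _ (hEO _ (Or.inl (Dp.mem_E.2 ⟨0, rfl⟩)))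
  have hEsub : Dp.E ⊆ O := fun χ h => hEO χ (Or.inl h)
  have hx9 : x ≤ 9 := by
    have := Finset.sum_le_sum_of_subset (f := fun χ => d χ ^ 2) hEsub
    rw [Dp.sum_E, hsumN, hx] at this
    nlinarith
  have hxN : 7 * x ∣ 29120 := by
    rw [← hx, ← Dp.deg_mu 0]; simpa using C.dvd (Dp.mu 0)
  have hcg := Dp.congr_X
  rw [hx] at hcg
  push_cast at hcg
  have hxmem : x ∈ ({1, 2, 4, 5, 8} : Finset ℕ) :=
    (by decide +kernel : ∀ x : ℕ, x < 10 → 7 * x ∣ 29120 → x ∈ ({1, 2, 4, 5, 8} : Finset ℕ))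
      x (by omega) hxN
  simp only [Finset.mem_insert, Finset.mem_singleton] at hxmem
  have hcx : Dp.c = 0 ∧ (x = 5 ∧ Dp.eps = 1 ∨ x = 8 ∧ Dp.eps = -1) := by
    rcases hcc with h | ⟨h, -⟩ <;> rw [h] at hcg ⊢ <;>
      rcases Dp.eps_eq with e | e <;> rw [e] at hcg ⊢ <;> rcases hxmem with rfl | rfl | rfl | rfl | rfl
    all_goals first
      | (norm_num; done)
      | (exfalso; revert hcg; norm_num; done)
  obtain ⟨hc0, hxc⟩ := hcx
  have hn := Dp.norm_eq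
  rw [hc0] at hn
  have hS3 : ∑ χ ∈ Dp.R, Dp.f χ ^ 2 = 3 := by
    rcases Dp.eps_eq with e | e <;> rw [e] at hn <;> norm_num at hn ⊢ <;> linarith
  have hf1 : ∀ χ ∈ Dp.R, Dp.f χ = 1 ∨ Dp.f χ = -1 := fun χ h => sq_eq_one_iff.1
    (sq_eq_one_of_le_three (Dp.f_ne χ h)
      ((Finset.single_le_sum (f := fun χ => Dp.f χ ^ 2) (fun _ _ => sq_nonneg _) h).trans hS3.le))
  have hcard : (Dp.R.erase W).card = 2 := by
    have h : Dp.R.card = 3 := by
      rw [Finset.sum_congr rfl fun χ h => show Dp.f χ ^ 2 = 1 from sq_eq_one_iff.2 (hf1 χ h)] at hS3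
      simp only [Finset.sum_const, nsmul_eq_mul, mul_one] at hS3
      exact_mod_cast hS3
    rw [Finset.card_erase_of_mem hWR, h]
  obtain ⟨U, U', hne, hUU⟩ := Finset.card_eq_two.1 hcard
  have hU : U ∈ Dp.R ∧ U ≠ W := by
    have : U ∈ Dp.R.erase W := by rw [hUU]; simp
    exact ⟨Finset.mem_of_mem_erase this, Finset.ne_of_mem_erase this⟩
  have hU' : U' ∈ Dp.R ∧ U' ≠ W := by
    have : U' ∈ Dp.R.erase W := by rw [hUU]; simp
    exact ⟨Finset.mem_of_mem_erase this, Finset.ne_of_mem_erase this⟩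
  have hsub : Dp.E ∪ {U, U'} ⊆ O := by
    intro χ hχ
    simp only [Finset.mem_union, Finset.mem_insert, Finset.mem_singleton] at hχ
    rcases hχ with h | rfl | rfl
    exacts [hEO _ (Or.inl h), hEO _ (Or.inr hU), hEO _ (Or.inr hU')]
  have hdisj : Disjoint Dp.E {U, U'} := Finset.disjoint_left.2 fun χ h h' => by
    simp only [Finset.mem_insert, Finset.mem_singleton] at h'
    rcases h' with rfl | rfl
    exacts [Finset.disjoint_left.1 Dp.disjoint h hU.1, Finset.disjoint_left.1 Dp.disjoint h hU'.1]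
  have hsplit := Finset.sum_sdiff (f := fun χ => d χ ^ 2) hsub
  rw [Finset.sum_union hdisj, Dp.sum_E, Finset.sum_pair hne, hsumN, hx] at hsplit
  have hdeg := Dp.deg_eq
  rw [← Finset.add_sum_erase _ _ hWR, hUU, Finset.sum_pair hne, hfW, hdW, hc0, hx] at hdeg
  push_cast at hdeg
  have hval : ∀ V, V ∈ Dp.R ∧ V ≠ W → ∀ B : ℕ, B ≤ 13 → (∀ b, d V = 7 * b → b ≤ B) →
      d V = 14 ∧ Dp.f V = 1 := by
    intro V hV B hB hb'
    obtain ⟨b, hb⟩ := hOw V (hEO V (Or.inr hV))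
    have hbB := hb' b hb
    have hbN : 7 * b ∣ 29120 := by rw [← hb]; simpa using C.dvd V
    have hV' := Dp.congr_R V hV.1
    rw [hb] at hV'
    push_cast at hV'
    have hbmem : b ∈ ({1, 2, 4, 5, 8, 10, 13} : Finset ℕ) :=
      (by decide +kernel : ∀ x : ℕ, x < 14 → 7 * x ∣ 29120 →
        x ∈ ({1, 2, 4, 5, 8, 10, 13} : Finset ℕ)) b (by omega) hbN
    simp only [Finset.mem_insert, Finset.mem_singleton] at hbmem
    rw [hb]
    rcases hf1 V hV.1 with e | e <;> rw [e] at hV' ⊢ <;>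
      rcases hbmem with rfl | rfl | rfl | rfl | rfl | rfl | rfl
    all_goals first
      | (norm_num; done)
      | (exfalso; revert hV'; norm_num; done)
  rcases hxc with ⟨rfl, heps⟩ | ⟨rfl, heps⟩
  swap
  · exfalso
    obtain ⟨h1, e1⟩ := hval U hU 7 (by norm_num) fun b hb => by
      rw [hb] at hsplit
      by_contra hc
      have := Nat.pow_le_pow_left (show 7 * 8 ≤ 7 * b by omega) 2
      omega
    obtain ⟨h2, e2⟩ := hval U' hU' 7 (by norm_num) fun b hb => by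
      rw [hb] at hsplit
      by_contra hc
      have := Nat.pow_le_pow_left (show 7 * 8 ≤ 7 * b by omega) 2
      omega
    rw [h1, h2, e1, e2, heps] at hdeg
    norm_num at hdeg
  obtain ⟨h1, e1⟩ := hval U hU 13 le_rfl fun b hb => by
    rw [hb] at hsplit
    by_contra hc
    have := Nat.pow_le_pow_left (show 7 * 14 ≤ 7 * b by omega) 2
    omega
  obtain ⟨h2, e2⟩ := hval U' hU' 13 le_rfl fun b hb => by
    rw [hb] at hsplit
    by_contra hc
    have := Nat.pow_le_pow_left (show 7 * 14 ≤ 7 * b by omega) 2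
    omega
  rw [h1, h2] at hsplit
  have hrest : ∀ χ ∈ O \ (Dp.E ∪ {U, U'}), d χ = 91 := by
    intro χ hχ
    have hle : d χ ^ 2 ≤ 8281 := by
      have := Finset.single_le_sum (f := fun χ => d χ ^ 2) (fun _ _ => Nat.zero_le _) hχ
      omega
    rw [Finset.mem_sdiff, Finset.mem_union] at hχ
    obtain ⟨hχO, hnot⟩ := hχ
    obtain ⟨hχo, hχW, -⟩ := (hO χ).1 hχO
    have hR : χ ∉ Dp.R := fun h => hnot (Or.inr (by
      rw [← hUU]; exact Finset.mem_erase.2 ⟨hχW, h⟩))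
    have h13 : 13 ∣ d χ := (Dp.dvd_or_mem hχo).resolve_right (by
      rintro (h | h)
      exacts [hnot (Or.inl h), hR h])
    obtain ⟨b, hb⟩ := (show Nat.Coprime 7 13 by norm_num).mul_dvd_of_dvd_of_dvd (hOw χ hχO) h13
    have h1 := C.one_lt χ hχo
    rw [hb] at hle h1 ⊢
    rcases b with _ | _ | b
    · simp at h1
    · norm_num
    · exfalso; nlinarith
  have hrange : ∀ x ∈ Set.range d, x = 1 ∨ x = 4 * 2 ^ 4 ∨ x = 4 * 2 ^ 4 + 1 ∨ x = 7 * 13 ∨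
      x = 7 * 5 ∨ x = 7 * 2 := by
    rintro _ ⟨χ, rfl⟩
    norm_num
    by_cases g1 : χ = o
    · exact Or.inl (g1 ▸ C.d_o)
    by_cases g2 : χ = W
    · exact Or.inr (Or.inl (g2 ▸ hdW))
    by_cases g3 : χ ∈ D0.E
    · exact Or.inr (Or.inr (Or.inl (hE0 χ g3)))
    have hχO : χ ∈ O := (hO χ).2 ⟨g1, g2, g3⟩
    by_cases h4 : χ ∈ Dp.E ∪ {U, U'}
    · simp only [Finset.mem_union, Finset.mem_insert, Finset.mem_singleton] at h4
      rcases h4 with h | rfl | rfl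
      · rw [Dp.deg_E h, hx]; norm_num
      · omega
      · omega
    · exact Or.inr (Or.inr (Or.inr (Or.inl (hrest χ (Finset.mem_sdiff.2 ⟨hχO, h4⟩)))))
  refine ⟨hrange, ⟨W, by rw [hdW]; norm_num⟩, ⟨D0.mu 0, by rw [D0.deg_mu, hX]⟩, ?_,
    ⟨Dp.mu 0, by rw [Dp.deg_mu, hx]⟩, ⟨U, by rw [h1]⟩⟩
  obtain ⟨χ, hχ⟩ : (O \ (Dp.E ∪ {U, U'})).Nonempty := by
    rw [Finset.nonempty_iff_ne_empty]
    intro h
    rw [h, Finset.sum_empty] at hsplit
    omega
  exact ⟨χ, by rw [hrest χ hχ]⟩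

theorem shape_of_four_le {t0 np nm : ℕ} (ha : 4 ≤ a) (D0 : TData d o w 2 t0)
    (Dp : TData d o kp 4 np) (Dm : TData d o km 4 nm) (ht0 : t0 + 1 = a ^ 2)
    (hnp : 2 * np = a ^ 2 + a) (hnm : 2 * nm + a = a ^ 2) (hX : D0.X = 4 * a ^ 4 + 1)
    (huniq : ∀ x y : ℕ, x ^ 2 + y ^ 2 = 2 * a ^ 2 → x = a) :
    DegShape (Set.range d) a w kp km := by
  have ht3 : 3 ≤ t0 := by nlinarith
  have hnm6 : 6 ≤ nm := by nlinarith
  have hnp_eq : np = nm + a := by omega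
  have hkm := C.sq_le_km
  have hkp := C.km_lt_kp
  have hkm16 : 16 < km := by nlinarith
  have hw7 := C.seven_le_w
  have hmp : km ∣ 4 * a ^ 4 + 1 := by rw [← C.mul_eq]; exact Dvd.intro_left _ rfl
  have hpp : kp ∣ 4 * a ^ 4 + 1 := by rw [← C.mul_eq]; exact Dvd.intro _ rfl
  obtain ⟨-, W, hW, -, -⟩ := C.stage_zero D0 ht3
  have hWo : W ≠ o := fun h => D0.o_notMem (by rw [hW, h]; simp)
  have hdW : d W = 4 * a ^ 4 := C.deg_W D0 ht3 hX hW
  obtain ⟨O, hO, hOw, hsum⟩ := C.others D0 ht0 hX hW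
  have common : ∀ {k t : ℕ} (D : TData d o k 4 t), 6 ≤ t → 16 < k → k ∣ 4 * a ^ 4 + 1 →
      D.c = 0 ∧ W ∈ D.R ∧ D.R.card = 3 ∧ (∀ χ ∈ D.E, χ ∈ O) ∧ (∀ χ ∈ D.R.erase W, χ ∈ O) := by
    intro k t D ht hk hdvd
    have hn := D.norm_eq
    have hS : 0 ≤ ∑ χ ∈ D.R, D.f χ ^ 2 := Finset.sum_nonneg fun _ _ => sq_nonneg _
    have ht' : (6 : ℤ) ≤ t := by exact_mod_cast ht
    have hc : D.c = 0 := by
      by_contra hc
      have h1 : 1 ≤ D.c ^ 2 := by
        have : 0 < D.c ^ 2 := by positivity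
        omega
      push_cast at hn
      nlinarith [sq_nonneg (D.c + D.eps)]
    rw [hc] at hn
    have hS3 : ∑ χ ∈ D.R, D.f χ ^ 2 = 3 := by
      rcases D.eps_eq with e | e <;> rw [e] at hn <;> norm_num at hn ⊢ <;> linarith
    have hcard : D.R.card = 3 := by
      rw [Finset.sum_congr rfl fun χ h => sq_eq_one_of_le_three (D.f_ne χ h)
        ((Finset.single_le_sum (f := fun χ => D.f χ ^ 2) (fun _ _ => sq_nonneg _) h).trans hS3.le)]
        at hS3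
      simp only [Finset.sum_const, nsmul_eq_mul, mul_one] at hS3
      exact_mod_cast hS3
    obtain ⟨hWR, -⟩ := C.steinberg_mem D (by omega) (by omega) (Or.inl hc) hdvd hWo hdW
    have hE0 : ∀ χ ∈ D0.E, χ ∉ D.E ∧ χ ∉ D.R := fun χ h =>
      C.notMem_of_dvd D (by omega) (by omega) (by simp [hc]) (by rw [D0.deg_E h, hX]; exact hdvd)
    refine ⟨hc, hWR, hcard, fun χ h => (hO χ).2 ⟨?_, ?_, fun h0 => (hE0 χ h0).1 h⟩,
      fun χ h => (hO χ).2 ⟨?_, Finset.ne_of_mem_erase h,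
        fun h0 => (hE0 χ h0).2 (Finset.mem_of_mem_erase h)⟩⟩
    · rintro rfl; exact D.o_notMem_E h
    · rintro rfl; exact Finset.disjoint_left.1 D.disjoint h hWR
    · rintro rfl; exact D.o_notMem (Finset.mem_of_mem_erase h)
  obtain ⟨hcp, hWp, hcardp, hEp, hRp⟩ := common Dp (by omega) (by omega) hpp
  obtain ⟨hcm, hWm, hcardm, hEm, hRm⟩ := common Dm hnm6 hkm16 hmp
  have hEo : ∀ {k t : ℕ} (D : TData d o k 4 t), ∀ χ ∈ D.E, χ ≠ o ∧ d χ = D.X := fun D χ h =>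
    ⟨fun e => D.o_notMem_E (e ▸ h), D.deg_E h⟩
  have hne : ∀ {k t : ℕ} (D : TData d o k 4 t), D.c = 0 → 5 < k → ¬ k ∣ D.X := by
    intro k t D hc hk h
    have hcg := D.congr_X
    rw [hc] at hcg
    have h2 := dvd_sub hcg (Int.natCast_dvd_natCast.2 h)
    push_cast at h2
    rw [sub_zero, add_sub_cancel_left] at h2
    rcases D.eps_eq with e | e <;> rw [e] at h2 <;>
      have := eq_zero_of_small h2 (by omega) (by omega) <;> omega
  -- the two families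
  have hmp' : km ∣ Dp.X := by
    by_contra h
    have h1 := Dm.card_le (S := Dp.E) (hEo Dp) h
    rw [Dp.card_E, hcardm] at h1
    omega
  have hpm' : kp ∣ Dm.X := by
    by_contra h
    have hsub : Dm.E ⊆ Dp.R := by
      intro χ hχ
      rcases (Dp.dvd_or_mem (hEo Dm χ hχ).1).resolve_left ((hEo Dm χ hχ).2 ▸ h) with h' | h'
      · exfalso
        refine hne Dm hcm (by omega) ?_
        rw [← Dm.deg_E hχ, Dp.deg_E h']
        exact hmp'
      · exact h'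
    have h1 := Finset.card_le_card hsub
    rw [Dm.card_E, hcardp] at h1
    omega
  have hfam : ∀ {k k' t : ℕ} (D : TData d o k 4 t) (z : ℤ), D.c = 0 → Odd k → 5 < k →
      1 ≤ t → k'.Coprime w → (w : ℤ) * k' + 4 = k * z → k' ∣ D.X → (∀ χ ∈ D.E, χ ∈ O) →
      4 * a ^ 6 < t * (k' * 4) ^ 2 → D.X = w * k' := by
    intro k k' t D z hc hk hk5 ht hcop hid hdvd hE hlt
    have h1 : w * k' ∣ D.X := hcop.symm.mul_dvd_of_dvd_of_dvd
      (D.deg_mu ⟨0, ht⟩ ▸ hOw _ (hE _ (D.mem_E.2 ⟨_, rfl⟩))) hdvd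
    obtain ⟨u, hu⟩ := h1
    have hX1 : 1 < D.X := C.one_lt_X D ht
    have hu0 : 0 < u := by
      rcases Nat.eq_zero_or_pos u with rfl | h
      · simp at hu; omega
      · exact h
    have hcg := D.congr_X
    rw [hc, hu] at hcg
    push_cast at hcg
    rw [sub_zero] at hcg
    have hle : t * (k' * u) ^ 2 ≤ 4 * a ^ 6 := by
      have h2 : ((∑ χ ∈ D.E, d χ ^ 2 : ℕ) : ℤ) ≤ ∑ χ ∈ O, (d χ : ℤ) ^ 2 := by
        push_cast
        exact Finset.sum_le_sum_of_subset_of_nonneg hE fun _ _ _ => sq_nonneg _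
      rw [hsum, D.sum_E, hu] at h2
      push_cast at h2
      have h3 : (w : ℤ) ^ 2 * ((t : ℤ) * ((k' : ℤ) * u) ^ 2) ≤ (w : ℤ) ^ 2 * (4 * a ^ 6) := by
        nlinarith [mul_nonneg (sq_nonneg (w : ℤ)) (sq_nonneg (a : ℤ))]
      have h4 := le_of_mul_le_mul_left h3 (by positivity)
      exact_mod_cast h4
    obtain ⟨rfl, -⟩ := u_eq_one D.eps_eq hk (by omega) hid hcg hu0 hle hlt
    rw [hu, mul_one]
  have hkpc : (kp : ℤ) = 2 * a ^ 2 + 2 * a + 1 := by exact_mod_cast C.kp_eq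
  have hkpn := C.kp_eq
  have hkmc := C.km_cast
  have hXp : Dp.X = w * km := by
    refine hfam Dp (2 * a ^ 2 - 4 * a + 3) hcp C.oddp (by omega) (by omega) C.copm ?_ hmp' hEp ?_
    · rw [C.w_cast, hkmc, hkpc]; push_cast; ring
    · have h1 : a ^ 4 ≤ km ^ 2 := by
        calc a ^ 4 = (a ^ 2) ^ 2 := by ring
          _ ≤ km ^ 2 := Nat.pow_le_pow_left (by omega) 2
      have h2 : 0 < a ^ 2 := by positivity
      have h6 : 0 < a ^ 6 := by positivity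
      calc 4 * a ^ 6 < 8 * (a ^ 2 * a ^ 4) := by rw [show a ^ 2 * a ^ 4 = a ^ 6 by ring]; omega
        _ ≤ 16 * np * km ^ 2 := by nlinarith
        _ = np * (km * 4) ^ 2 := by ring
  have hXm : Dm.X = w * kp := by
    refine hfam Dm (2 * a ^ 2 + 4 * a + 3) hcm C.oddm (by omega) (by omega) C.copp ?_ hpm' hEm ?_
    · rw [C.w_cast, hkmc, hkpc]; push_cast; ring
    · have h1 : a ^ 4 * 4 ≤ kp ^ 2 := by
        calc a ^ 4 * 4 = (2 * a ^ 2) ^ 2 := by ring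
          _ ≤ kp ^ 2 := Nat.pow_le_pow_left (by omega) 2
      have h3 : a ^ 2 ≤ 4 * nm := by nlinarith
      have h6 : 0 < a ^ 6 := by positivity
      calc 4 * a ^ 6 < 16 * (a ^ 2 * a ^ 4) := by rw [show a ^ 2 * a ^ 4 = a ^ 6 by ring]; omega
        _ ≤ 16 * nm * kp ^ 2 := by nlinarith
        _ = nm * (kp * 4) ^ 2 := by ring
  -- the remainder
  have hEE : Disjoint Dp.E Dm.E := Finset.disjoint_left.2 fun χ h h' => by
    have h1 := (Dp.deg_E h).symm.trans (Dm.deg_E h')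
    rw [hXp, hXm] at h1
    have := Nat.eq_of_mul_eq_mul_left (by omega) h1
    omega
  set O' := O \ (Dp.E ∪ Dm.E) with hO'
  have hO'sum : ∑ χ ∈ O', d χ ^ 2 = w ^ 2 * (2 * a ^ 2) := by
    have h := Finset.sum_sdiff (f := fun χ => (d χ : ℤ) ^ 2) (Finset.union_subset hEp hEm)
    have e1 : ((∑ χ ∈ Dp.E, d χ ^ 2 : ℕ) : ℤ) = ((np * (w * km) ^ 2 : ℕ) : ℤ) := by
      rw [Dp.sum_E, hXp]
    have e2 : ((∑ χ ∈ Dm.E, d χ ^ 2 : ℕ) : ℤ) = ((nm * (w * kp) ^ 2 : ℕ) : ℤ) := by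
      rw [Dm.sum_E, hXm]
    push_cast at e1 e2
    rw [Finset.sum_union hEE, e1, e2, hsum, hkmc, hkpc] at h
    have hp2 : (2 : ℤ) * np = a ^ 2 + a := by exact_mod_cast hnp
    have hm2 : (2 : ℤ) * nm + a = a ^ 2 := by exact_mod_cast hnm
    push_cast at h
    have : ((∑ χ ∈ O', d χ ^ 2 : ℕ) : ℤ) = ((w ^ 2 * (2 * a ^ 2) : ℕ) : ℤ) := by
      push_cast
      refine mul_left_cancel₀ (two_ne_zero (α := ℤ)) ?_
      linear_combination 2 * h - (w : ℤ) ^ 2 * (2 * a ^ 2 + 1 - 2 * a) ^ 2 * hp2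
        - (w : ℤ) ^ 2 * (2 * (a : ℤ) ^ 2 + 2 * a + 1) ^ 2 * hm2
    exact_mod_cast this
  have hsubR : Dp.R.erase W ⊆ O' := fun χ h => by
    refine Finset.mem_sdiff.2 ⟨hRp χ h, fun h' => ?_⟩
    rcases Finset.mem_union.1 h' with h' | h'
    · exact Finset.disjoint_left.1 Dp.disjoint h' (Finset.mem_of_mem_erase h)
    · exact (C.notMem_of_dvd Dp (by omega) (by omega) (by simp [hcp])
        (by rw [Dm.deg_E h']; exact hpm')).2 (Finset.mem_of_mem_erase h)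
  have hsup : O' ⊆ Dp.R.erase W := fun χ h => by
    obtain ⟨hχO, hnot⟩ := Finset.mem_sdiff.1 h
    rw [Finset.mem_union, not_or] at hnot
    obtain ⟨hχo, hχW, -⟩ := (hO χ).1 hχO
    rcases Dp.dvd_or_mem hχo with hd | hd | hd
    · exfalso
      obtain ⟨b, hb⟩ := C.copp.mul_dvd_of_dvd_of_dvd hd (hOw χ hχO)
      have hb0 : 0 < b := by
        rcases Nat.eq_zero_or_pos b with rfl | hh
        · have := C.one_lt χ hχo; simp at hb; omega
        · exact hh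
      have hle := Finset.single_le_sum (f := fun χ => d χ ^ 2) (fun _ _ => Nat.zero_le _) h
      rw [hO'sum, hb] at hle
      have h2 : (kp * w) ^ 2 ≤ (kp * w * b) ^ 2 :=
        Nat.pow_le_pow_left (Nat.le_mul_of_pos_right _ hb0) 2
      have h3 : kp ^ 2 ≤ 2 * a ^ 2 := le_of_mul_le_mul_left (by linarith [h2, hle] :
        w ^ 2 * kp ^ 2 ≤ w ^ 2 * (2 * a ^ 2)) (by positivity)
      nlinarith
    · exact absurd hd hnot.1
    · exact Finset.mem_erase.2 ⟨hχW, hd⟩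
  have hO'eq : O' = Dp.R.erase W := Finset.Subset.antisymm hsup hsubR
  have hcard : (Dp.R.erase W).card = 2 := by rw [Finset.card_erase_of_mem hWp, hcardp]
  obtain ⟨U, U', hne', hUU⟩ := Finset.card_eq_two.1 hcard
  have hmemU : ∀ V ∈ O', w ∣ d V := fun V hV => hOw V (Finset.mem_sdiff.1 hV).1
  rw [← hO'eq] at hUU
  obtain ⟨b, hb⟩ := hmemU U (by rw [hUU]; simp)
  obtain ⟨b', hb'⟩ := hmemU U' (by rw [hUU]; simp)
  rw [hUU, Finset.sum_pair hne', hb, hb'] at hO'sum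
  have hbb : b ^ 2 + b' ^ 2 = 2 * a ^ 2 :=
    Nat.eq_of_mul_eq_mul_left (n := w ^ 2) (by positivity) (by linarith)
  obtain rfl := huniq b b' hbb
  obtain rfl : b' = b := huniq b' b (by omega)
  refine ⟨?_, ⟨W, hdW⟩, ⟨D0.mu ⟨0, by omega⟩, by rw [D0.deg_mu, hX]⟩,
    ⟨Dm.mu ⟨0, by omega⟩, by rw [Dm.deg_mu, hXm]⟩,
    ⟨Dp.mu ⟨0, by omega⟩, by rw [Dp.deg_mu, hXp]⟩, ⟨U, hb⟩⟩
  rintro _ ⟨χ, rfl⟩
  by_cases h1 : χ = o
  · exact Or.inl (h1 ▸ C.d_o)
  by_cases h2 : χ = W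
  · exact Or.inr (Or.inl (h2 ▸ hdW))
  by_cases h3 : χ ∈ D0.E
  · exact Or.inr (Or.inr (Or.inl (by rw [D0.deg_E h3, hX])))
  have hχO : χ ∈ O := (hO χ).2 ⟨h1, h2, h3⟩
  by_cases h4 : χ ∈ Dp.E
  · exact Or.inr (Or.inr (Or.inr (Or.inr (Or.inl (by rw [Dp.deg_E h4, hXp])))))
  by_cases h5 : χ ∈ Dm.E
  · exact Or.inr (Or.inr (Or.inr (Or.inl (by rw [Dm.deg_E h5, hXm]))))
  have h6 : χ ∈ O' := Finset.mem_sdiff.2 ⟨hχO, by simp [h4, h5]⟩
  rw [hUU] at h6
  simp only [Finset.mem_insert, Finset.mem_singleton] at h6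
  rcases h6 with rfl | rfl
  exacts [Or.inr (Or.inr (Or.inr (Or.inr (Or.inr hb)))), Or.inr (Or.inr (Or.inr (Or.inr (Or.inr hb'))))]

end Ctx

end Cfsg.Agent.BlocksChars.SuzukiDegrees
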