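import Cfsg.Agent.BlocksChars.SuzukiDegrees.TorusValues
import Cfsg.Agent.Lib.Suzuki.TrCover
import Cfsg.Agent.Lib.Characters.Counting
import Cfsg.Agent.BlockCharsA.DefectZeroVanish

/-!
# The square of a class of elements of order above two of `Sz(q)` contains all non-identity elements

Class multiplication with the torus values of the characters; for two translations the coverage is
computed in the Borel subgroup.
-/

set_option autoImplicit false
set_option linter.unusedSectionVars false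
set_option linter.style.haveILetI false

namespace Cfsg.Agent.BlocksChars.SuzukiDegrees

open Cfsg.Agent.Suzuki Cfsg.Agent.Characters
open scoped ComplexConjugate

/-- Two conjugates of `x` multiply to `g` as soon as the character sum does not vanish. -/
theorem exists_of_charSum_ne_zero {G : Type*} [Group G] [Fintype G]
    [Fintype (Cfsg.IrrCharacter G)] (x g : G)
    (h : ∑ χ : Cfsg.IrrCharacter G,
      (χ : G → ℂ) x * (χ : G → ℂ) x * conj ((χ : G → ℂ) g) / (χ : G → ℂ) 1 ≠ 0) :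
    ∃ u v : G, g = u * x * u⁻¹ * (v * x * v⁻¹) := by
  classical
  have h1 : ∑ z : G, ∑ χ : Cfsg.IrrCharacter G,
      (χ : G → ℂ) (x * (z * x * z⁻¹)) * conj ((χ : G → ℂ) g) ≠ 0 := by
    have h2 : ∀ χ : Cfsg.IrrCharacter G,
        ∑ z : G, (χ : G → ℂ) (x * (z * x * z⁻¹)) * conj ((χ : G → ℂ) g) = (Nat.card G : ℂ) *
          ((χ : G → ℂ) x * (χ : G → ℂ) x * conj ((χ : G → ℂ) g) / (χ : G → ℂ) 1) := fun χ => by
      rw [← Finset.sum_mul, sum_mul_conjugates χ.2]; ring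
    rw [Finset.sum_comm, Finset.sum_congr rfl fun χ _ => h2 χ, ← Finset.mul_sum]
    exact mul_ne_zero natCard_ne_zero h
  obtain ⟨z, -, hz⟩ := Finset.exists_ne_zero_of_sum_ne_zero h1
  have hconj : IsConj (x * (z * x * z⁻¹)) g := by
    by_contra hn
    exact hz (by rw [second_orthogonality, if_neg hn])
  obtain ⟨c, hc⟩ := isConj_iff.1 hconj
  exact ⟨c, c * z, by rw [← hc]; group⟩

theorem ne_zero_of_norm_sub_one {z : ℂ} (h : ‖z - 1‖ < 1) : z ≠ 0 := fun e => by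
  rw [e, zero_sub, norm_neg, norm_one] at h; exact lt_irrefl _ h

/-- The three kinds: order, exceptional degree, square sum and the three values. -/
inductive Kind (m : ℕ) : ℕ → ℕ → ℕ → ℤ → ℤ → ℤ → Prop
  | zero : Kind m (2 ^ (2 * m + 1) - 1) (dX m) (2 ^ (2 * m + 1) - 1 - 2) (-1) 1 0
  | plus : Kind m (kPlus m) (dT m (kMinus m)) (kPlus m - 4) 1 (-1) 1
  | minus : Kind m (kMinus m) (dT m (kPlus m)) (kMinus m - 4) 1 (-1) (-1)

/-- The degrees and numbers as integers in `A = 2 ^ m`. -/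
theorem casts {m : ℕ} (hm : 1 ≤ m) :
    ∃ A : ℤ, A = ((2 ^ m : ℕ) : ℤ) ∧ 2 ≤ A ∧ ((2 ^ (2 * m + 1) - 1 : ℕ) : ℤ) = 2 * A ^ 2 - 1 ∧
      (kPlus m : ℤ) = 2 * A ^ 2 + 2 * A + 1 ∧ (kMinus m : ℤ) = 2 * A ^ 2 - 2 * A + 1 ∧
      (dW m : ℤ) = 4 * A ^ 4 ∧ (dX m : ℤ) = 4 * A ^ 4 + 1 ∧ (dU m : ℤ) = (2 * A ^ 2 - 1) * A ∧
      (dT m (kPlus m) : ℤ) = (2 * A ^ 2 - 1) * (2 * A ^ 2 + 2 * A + 1) ∧
      (dT m (kMinus m) : ℤ) = (2 * A ^ 2 - 1) * (2 * A ^ 2 - 2 * A + 1) := by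
  obtain ⟨ha, hw, hp, hn⟩ := numbers hm
  refine ⟨_, rfl, by exact_mod_cast ha, hw, hp, hn, by simp [dW], by simp [dX], ?_, ?_, ?_⟩
  · rw [dU, Nat.cast_mul, hw]
  · rw [dT, Nat.cast_mul, hw, hp]
  · rw [dT, Nat.cast_mul, hw, hn]

theorem arith_plus {A : ℤ} (hA : 2 ≤ A) :
    5 * (2 * A ^ 2 + 2 * A - 3) * (2 * A - 1) ≤ 4 * ((2 * A ^ 2 - 1) * (2 * A ^ 2 - 2 * A + 1)) := by
  obtain ⟨s, hs, rfl⟩ : ∃ s : ℤ, 0 ≤ s ∧ A = 2 + s := ⟨A - 2, by omega, by ring⟩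
  nlinarith [pow_nonneg hs 4, pow_nonneg hs 3, pow_nonneg hs 2]

theorem arith_minus {A : ℤ} (hA : 2 ≤ A) :
    5 * (2 * A ^ 2 - 2 * A - 3) * (2 * A - 1) ≤ 4 * ((2 * A ^ 2 - 1) * (2 * A ^ 2 + 2 * A + 1)) := by
  obtain ⟨s, hs, rfl⟩ : ∃ s : ℤ, 0 ≤ s ∧ A = 2 + s := ⟨A - 2, by omega, by ring⟩
  nlinarith [pow_nonneg hs 4, pow_nonneg hs 3, pow_nonneg hs 2]

theorem root_plus {A r : ℝ} (hA : 2 ≤ A)
    (hl : r * ((2 * A ^ 2 + 2 * A - 3) * A - (2 * A ^ 2 - 2 * A + 1)) =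
      A * ((2 * A ^ 2 - 1) * (2 * A ^ 2 - 2 * A + 1) - (2 * A ^ 2 + 2 * A - 3)))
    (hbig : (A + 1) * (1 + r) ^ 2 ≤ 8 * A ^ 3) : False := by
  obtain ⟨s, hs, rfl⟩ : ∃ s : ℝ, 0 ≤ s ∧ A = 2 + s := ⟨A - 2, by linarith, by ring⟩
  have hpos : 0 < (2 * (2 + s) ^ 2 + 2 * (2 + s) - 3) * (2 + s) - (2 * (2 + s) ^ 2 - 2 * (2 + s) + 1) := by
    nlinarith [pow_nonneg hs 3, pow_nonneg hs 2]
  have hr : 3 * (2 + s) - 2 ≤ r := by
    refine le_of_mul_le_mul_right ?_ hpos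
    rw [hl]
    nlinarith [pow_nonneg hs 5, pow_nonneg hs 4, pow_nonneg hs 3, pow_nonneg hs 2]
  have h := pow_le_pow_left₀ (by linarith : (0 : ℝ) ≤ 3 * (2 + s) - 1)
    (by linarith : 3 * (2 + s) - 1 ≤ 1 + r) 2
  nlinarith [mul_le_mul_of_nonneg_left h (by linarith : (0 : ℝ) ≤ 2 + s + 1), pow_nonneg hs 3,
    pow_nonneg hs 2]

theorem root_minus {A r : ℝ} (hA : 2 ≤ A)
    (hl : r * ((2 * A ^ 2 - 2 * A - 3) * A + (2 * A ^ 2 + 2 * A + 1)) =
      -(A * ((2 * A ^ 2 - 1) * (2 * A ^ 2 + 2 * A + 1) - (2 * A ^ 2 - 2 * A - 3))))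
    (hbig : (A + 1) * (1 + r) ^ 2 ≤ 8 * A ^ 3) : False := by
  obtain ⟨s, hs, rfl⟩ : ∃ s : ℝ, 0 ≤ s ∧ A = 2 + s := ⟨A - 2, by linarith, by ring⟩
  have hpos : 0 < (2 * (2 + s) ^ 2 - 2 * (2 + s) - 3) * (2 + s) + (2 * (2 + s) ^ 2 + 2 * (2 + s) + 1) := by
    nlinarith [pow_nonneg hs 3, pow_nonneg hs 2]
  have hr : r ≤ -(3 * (2 + s) + 1) := by
    refine le_of_mul_le_mul_right ?_ hpos
    rw [hl]
    nlinarith [pow_nonneg hs 5, pow_nonneg hs 4, pow_nonneg hs 3, pow_nonneg hs 2]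
  have h := pow_le_pow_left₀ (by linarith : (0 : ℝ) ≤ 3 * (2 + s))
    (by linarith : 3 * (2 + s) ≤ -(1 + r)) 2
  nlinarith [mul_le_mul_of_nonneg_left h (by linarith : (0 : ℝ) ≤ 2 + s + 1), pow_nonneg hs 3,
    pow_nonneg hs 2]

set_option maxHeartbeats 1000000 in
theorem Kind.facts {m k X Q : ℕ} {sig vW vU : ℤ} (hm : 1 ≤ m) (hk : Kind m k X Q sig vW vU) :
    X ≠ 1 ∧ X ≠ dW m ∧ X ≠ dU m ∧ dW m ≠ 1 ∧ dU m ≠ 1 ∧ dW m ≠ dU m ∧
      (Q : ℤ) + 2 + 2 * vU ^ 2 = k ∧ sig ^ 2 = 1 ∧ vW ^ 2 = 1 ∧ vU ^ 2 ≤ 1 ∧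
      (Q : ℤ) ≤ (2 * (2 ^ m : ℕ) - 1) ^ 2 ∧ 5 * (Q : ℤ) * (2 * (2 ^ m : ℕ) - 1) ≤ 4 * X ∧
      dU m ≤ X ∧ 64 ≤ dW m ∧ 14 ≤ dU m := by
  obtain ⟨A, hA, hA2, hw, hp, hn, eW, eX, eU, eP, eM⟩ := casts hm
  rw [← hA]
  have hA4 : 4 ≤ A ^ 2 := by nlinarith
  have hA8 : 8 ≤ A ^ 3 := by nlinarith
  have hA16 : 16 ≤ A ^ 4 := by nlinarith
  have hA3 : 4 * A ≤ A ^ 3 := by nlinarith only [hA2, hA4]
  have hU14 : (14 : ℤ) ≤ dU m := by rw [eU]; nlinarith only [hA2, hA3]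
  have hW64 : (64 : ℤ) ≤ dW m := by rw [eW]; linarith
  have hWU : (dU m : ℤ) < dW m := by rw [eU, eW]; nlinarith only [hA2, hA3, hA4, hA16]
  have h12 : dW m ≠ 1 ∧ dU m ≠ 1 ∧ dW m ≠ dU m ∧ 64 ≤ dW m ∧ 14 ≤ dU m := by omega
  cases hk with
  | zero =>
    have hq : (((2 ^ (2 * m + 1) - 1 - 2 : ℕ) : ℤ)) = 2 * A ^ 2 - 3 := by omega
    have e1 : dX m ≠ 1 := by omega
    have e2 : dX m ≠ dW m := by omega
    have e3 : dX m ≠ dU m := by omega
    have e4 : 2 * A ^ 2 - 3 + 2 + 2 * (0 : ℤ) ^ 2 = 2 * A ^ 2 - 1 := by ring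
    have e5 : 2 * A ^ 2 - 3 ≤ (2 * A - 1) ^ 2 := by nlinarith only [sq_nonneg (A - 1)]
    have e6 : 5 * (2 * A ^ 2 - 3) * (2 * A - 1) ≤ 4 * (4 * A ^ 4 + 1) := by
      obtain ⟨s, hs, rfl⟩ : ∃ s : ℤ, 0 ≤ s ∧ A = 2 + s := ⟨A - 2, by omega, by ring⟩
      nlinarith only [hs, pow_nonneg hs 4, pow_nonneg hs 3, pow_nonneg hs 2]
    rw [hq, hw, eX]
    exact ⟨e1, e2, e3, h12.1, h12.2.1, h12.2.2.1, e4, by norm_num, by norm_num, by norm_num, e5, e6,
      by omega, h12.2.2.2⟩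
  | plus =>
    have h9 : (13 : ℤ) ≤ kPlus m := by rw [hp]; linarith only [hA2, hA4]
    have hq : ((kPlus m - 4 : ℕ) : ℤ) = 2 * A ^ 2 + 2 * A - 3 := by omega
    have h1 : (dU m : ℤ) < dT m (kMinus m) := by
      rw [eU, eM]
      exact mul_lt_mul_of_pos_left (by nlinarith only [hA2]) (by linarith only [hA4])
    have h2 : (dT m (kMinus m) : ℤ) ≠ dW m := fun e => by
      rw [eM, eW] at e; nlinarith only [e, hA2, hA3]
    refine ⟨by omega, by omega, by omega, h12.1, h12.2.1, h12.2.2.1, by rw [hq, hp]; ring,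
      by norm_num, by norm_num, by norm_num, by rw [hq]; nlinarith only [hA2, mul_nonneg (by omega : 0 ≤ A - 1) (by omega : 0 ≤ A - 2)], by rw [hq, eM]; exact arith_plus hA2,
      by omega, h12.2.2.2⟩
  | minus =>
    have h9 : (5 : ℤ) ≤ kMinus m := by rw [hn]; nlinarith only [hA2]
    have hq : ((kMinus m - 4 : ℕ) : ℤ) = 2 * A ^ 2 - 2 * A - 3 := by omega
    have h1 : (dU m : ℤ) < dT m (kPlus m) := by
      rw [eU, eP]
      exact mul_lt_mul_of_pos_left (by nlinarith only [hA2]) (by linarith only [hA4])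
    have h2 : (dT m (kPlus m) : ℤ) ≠ dW m := fun e => by
      rw [eP, eW] at e; nlinarith only [e, hA2, hA3]
    refine ⟨by omega, by omega, by omega, h12.1, h12.2.1, h12.2.2.1, by rw [hq, hn]; ring,
      by norm_num, by norm_num, by norm_num, by rw [hq]; nlinarith only [hA2, sq_nonneg (A - 1)], by rw [hq, eP]; exact arith_minus hA2,
      by omega, h12.2.2.2⟩

theorem Kind.alts {m k X Q : ℕ} {sig vW vU : ℤ} (h : Kind m k X Q sig vW vU) :
    (k = 2 ^ (2 * m + 1) - 1 ∧ X = dX m ∧ sig = -1 ∧ vU = 0) ∨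
      (k = kPlus m ∧ X = dT m (kMinus m) ∧ sig = 1 ∧ vU = 1) ∨
      (k = kMinus m ∧ X = dT m (kPlus m) ∧ sig = 1 ∧ vU = -1) := by
  cases h with
  | zero => exact Or.inl ⟨rfl, rfl, rfl, rfl⟩
  | plus => exact Or.inr (Or.inl ⟨rfl, rfl, rfl, rfl⟩)
  | minus => exact Or.inr (Or.inr ⟨rfl, rfl, rfl, rfl⟩)

theorem Kind.det {m k X Q k' Q' : ℕ} {sig vW vU sig' vW' vU' : ℤ} (hm : 1 ≤ m)
    (h : Kind m k X Q sig vW vU) (h' : Kind m k' X Q' sig' vW' vU') : Q = Q' := by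
  obtain ⟨A, hA, hA2, hw, hp, hn, eW, eX, eU, eP, eM⟩ := casts hm
  have hA4 : 4 ≤ A ^ 2 := by nlinarith
  have h1 : (dT m (kMinus m) : ℤ) < dT m (kPlus m) := by rw [eP, eM]; nlinarith
  have h2 : (dT m (kMinus m) : ℤ) ≠ dX m := fun e => by rw [eM, eX] at e; nlinarith
  have h3 : (dT m (kPlus m) : ℤ) ≠ dX m := fun e => by rw [eP, eX] at e; nlinarith
  generalize hX : X = Y at h
  cases h <;> cases h' <;> first | rfl | (exfalso; omega)

variable {F : Type*} [Field F] [Fintype F] [CharP F 2] {m : ℕ}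
variable (hm : 1 ≤ m) (hF : Fintype.card F = 2 ^ (2 * m + 1))
variable [Fintype (Cfsg.IrrCharacter (Cfsg.Sz F m))]

/-- What is used about a torus element. -/
structure TorElt (y : Cfsg.Sz F m) (X Q : ℕ) (sig vW vU : ℤ) : Prop where
  notTr : ¬ IsTrType hF y
  supp : ∀ χ : Cfsg.IrrCharacter (Cfsg.Sz F m), χ ≠ trivIrr (Cfsg.Sz F m) →
    dg χ ≠ dW m → dg χ ≠ dU m → dg χ ≠ X →
    ((χ : Cfsg.IrrCharacter (Cfsg.Sz F m)) : Cfsg.Sz F m → ℂ) y = 0
  atW : ∀ χ ∈ fam (F := F) (m := m) (dW m), (χ : Cfsg.Sz F m → ℂ) y = (vW : ℂ)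
  atU : ∀ χ ∈ fam (F := F) (m := m) (dU m), (χ : Cfsg.Sz F m → ℂ) y = (vU : ℂ)
  sumE : ∑ χ ∈ fam (F := F) (m := m) X,
    ((χ : Cfsg.IrrCharacter (Cfsg.Sz F m)) : Cfsg.Sz F m → ℂ) y = (sig : ℂ)
  real : ∀ χ : Cfsg.IrrCharacter (Cfsg.Sz F m),
    conj ((χ : Cfsg.Sz F m → ℂ) y) = (χ : Cfsg.Sz F m → ℂ) y
  sqE : ∑ χ ∈ fam (F := F) (m := m) X,
    ((χ : Cfsg.IrrCharacter (Cfsg.Sz F m)) : Cfsg.Sz F m → ℂ) y ^ 2 = (Q : ℂ)
  const : ∀ g, IsTrType hF g → ∀ χ ∈ fam (F := F) (m := m) X, ∀ χ' ∈ fam (F := F) (m := m) X,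
    (χ : Cfsg.Sz F m → ℂ) g = (χ' : Cfsg.Sz F m → ℂ) g

include hm hF

theorem dg_triv : dg (trivIrr (Cfsg.Sz F m)) = 1 := by
  have h := BlocksChars.Degrees.charDegree_cast (trivIrr (Cfsg.Sz F m))
  simp only [trivIrr_coe] at h
  exact_mod_cast h

/-- A sum of a function supported on four degrees. -/
theorem sum_supp {M : Type*} [AddCommMonoid M] {X k Q : ℕ} {sig vW vU : ℤ}
    (hk : Kind m k X Q sig vW vU) (f : Cfsg.IrrCharacter (Cfsg.Sz F m) → M)
    (h : ∀ χ, χ ≠ trivIrr (Cfsg.Sz F m) → dg χ ≠ dW m → dg χ ≠ dU m → dg χ ≠ X → f χ = 0) :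
    ∑ χ, f χ = f (trivIrr (Cfsg.Sz F m)) +
      (∑ χ ∈ fam (dW m), f χ + ∑ χ ∈ fam (dU m), f χ + ∑ χ ∈ fam X, f χ) := by
  classical
  obtain ⟨n1, n2, n3, n4, n5, n6, -⟩ := hk.facts hm
  have ho := dg_triv (F := F) hm hF
  rw [← Finset.sum_union (Finset.disjoint_left.2 fun χ h1 h2 =>
      n6 ((mem_fam.1 h1).symm.trans (mem_fam.1 h2))),
    ← Finset.sum_union (Finset.disjoint_left.2 fun χ h1 h2 => by
      simp only [Finset.mem_union, mem_fam] at h1 h2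
      rcases h1 with h1 | h1
      exacts [n2 (h2.symm.trans h1), n3 (h2.symm.trans h1)]),
    ← Finset.sum_insert (a := trivIrr (Cfsg.Sz F m)) (by
      simp only [Finset.mem_union, mem_fam, ho, not_or]
      exact ⟨⟨n4.symm, n5.symm⟩, n1.symm⟩)]
  refine (Finset.sum_subset (Finset.subset_univ _) fun χ _ hχ => ?_).symm
  simp only [Finset.mem_insert, Finset.mem_union, mem_fam, not_or] at hχ
  exact h χ hχ.1 hχ.2.1.1 hχ.2.1.2 hχ.2.2

theorem isTrType_of_isConj {g y : Cfsg.Sz F m} (hg : IsTrType hF g) (h : IsConj g y) :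
    IsTrType hF y := by
  obtain ⟨c, rfl⟩ := isConj_iff.1 h
  obtain ⟨h', a, b, hab, he⟩ := hg
  exact ⟨h' * c⁻¹, a, b, hab, by rw [← he]; group⟩

theorem exists_torElt {g : Cfsg.Sz F m} (hg : g ≠ 1) (hn : ¬ IsTrType hF g) :
    ∃ (k X Q : ℕ) (sig vW vU : ℤ), Kind m k X Q sig vW vU ∧
      TorElt hF g X Q sig vW vU := by
  classical
  set T := Subgroup.centralizer ({g} : Set (Cfsg.Sz F m)) with hTdef
  have hT : IsTor T := (trType_or_isTor hm hF hg).resolve_left hn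
  have hgT : g ∈ T := Subgroup.mem_centralizer_singleton_iff.2 rfl
  have hclass : ∀ (χ : Cfsg.IrrCharacter (Cfsg.Sz F m)) (h y : Cfsg.Sz F m),
      (χ : Cfsg.Sz F m → ℂ) (h * y * h⁻¹) = (χ : Cfsg.Sz F m → ℂ) y :=
    fun χ h y => irr_isClassFunction χ y h
  obtain ⟨k, X, Q, sig, vW, vU, hk, hcard, y, hy, hy1, hval⟩ :
      ∃ (k X Q : ℕ) (sig vW vU : ℤ), Kind m k X Q sig vW vU ∧ Nat.card T = k ∧
        ∃ y : Cfsg.Sz F m, ∃ T' : Subgroup (Cfsg.Sz F m), (y ∈ T' ∧ y ≠ 1) ∧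
          (∀ χ : Cfsg.IrrCharacter (Cfsg.Sz F m),
            (χ : Cfsg.Sz F m → ℂ) g = (χ : Cfsg.Sz F m → ℂ) y) ∧
          TVals hF T' X sig vW vU := by
    rcases hT.cases hm hF with ⟨hc, ⟨h, hh⟩, -⟩ | ⟨hc, -, -⟩
    · refine ⟨_, _, _, _, _, _, .zero, by rw [hc, hF], h * g * h⁻¹, torusSubgroup hF,
        ⟨hh ▸ Subgroup.mem_map_of_mem (MulAut.conj h).toMonoidHom hgT,
          fun e => hg (conj_eq_one_iff.1 e)⟩, fun χ => (hclass χ h g).symm, (zero_torus hm hF).1⟩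
    · rcases hc with hc | hc
      · exact ⟨_, _, _, _, _, _, .plus, hc, g, T, ⟨hgT, hg⟩, fun _ => rfl,
          (plus_torus hm hF hT hc).1⟩
      · exact ⟨_, _, _, _, _, _, .minus, hc, g, T, ⟨hgT, hg⟩, fun _ => rfl,
          minus_torus hm hF hT hc⟩
  obtain ⟨hyT, hyne⟩ := hy1
  obtain ⟨hgy, hV⟩ := hval
  have hreal : ∀ χ : Cfsg.IrrCharacter (Cfsg.Sz F m),
      conj ((χ : Cfsg.Sz F m → ℂ) g) = (χ : Cfsg.Sz F m → ℂ) g := fun χ => by
    obtain ⟨n, hn'⟩ := hT.exists_conj_inv hm hF hgT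
    rw [← char_inv (irr_isCharacter χ), ← hn', hclass]
  refine ⟨k, X, Q, sig, vW, vU, hk, hn, fun χ h0 h1 h2 h3 => by rw [hgy]; exact hV.supp y hyT hyne χ h0 h1 h2 h3,
    fun χ hχ => by rw [hgy]; exact hV.atW y hyT hyne χ hχ,
    fun χ hχ => by rw [hgy]; exact hV.atU y hyT hyne χ hχ, ?_, hreal, ?_, hV.const⟩
  · rw [Finset.sum_congr rfl fun χ _ => hgy χ]; exact hV.sumE y hyT hyne
  · have h := second_orthogonality g g
    rw [if_pos (IsConj.refl _), ← hTdef, hcard, sum_supp hm hF hk _ (fun χ h0 h1 h2 h3 => by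
      rw [hgy, hV.supp y hyT hyne χ h0 h1 h2 h3, zero_mul])] at h
    obtain ⟨-, -, -, -, -, -, hQ, -, hvW, -⟩ := hk.facts hm
    rw [Finset.sum_congr rfl (fun χ hχ => by
        rw [hreal, hgy, hV.atW y hyT hyne χ hχ] : ∀ χ ∈ fam (dW m), _ = (vW : ℂ) * vW),
      Finset.sum_congr rfl (fun χ hχ => by
        rw [hreal, hgy, hV.atU y hyT hyne χ hχ] : ∀ χ ∈ fam (dU m), _ = (vU : ℂ) * vU),
      Finset.sum_const, Finset.sum_const, (zero_torus hm hF).2.1, card_small hm hF,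
      Finset.sum_congr rfl (fun χ _ => by rw [hreal, sq] :
        ∀ χ ∈ fam (F := F) (m := m) X, _ = (χ : Cfsg.Sz F m → ℂ) g ^ 2)] at h
    simp only [trivIrr_coe, map_one, mul_one, one_smul, nsmul_eq_mul, Nat.cast_ofNat] at h
    have h1 : ((vW : ℂ)) ^ 2 = 1 := by exact_mod_cast hvW
    have h2 : (Q : ℂ) + 2 + 2 * (vU : ℂ) ^ 2 = (k : ℂ) := by exact_mod_cast hQ
    linear_combination h - h2 - h1

/-- The trivial-degree facts about a torus element and a translation. -/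
theorem tr_value {g y : Cfsg.Sz F m} {k X Q : ℕ} {sig vW vU : ℤ} (hk : Kind m k X Q sig vW vU)
    (hy : TorElt hF y X Q sig vW vU) (hg : IsTrType hF g) :
    (∀ χ ∈ fam (F := F) (m := m) (dW m), (χ : Cfsg.Sz F m → ℂ) g = 0) ∧
    ∀ χ ∈ fam (F := F) (m := m) X, (χ : Cfsg.Sz F m → ℂ) g = -(sig : ℂ) * (1 + (vU : ℂ) *
      ∑ ψ ∈ fam (F := F) (m := m) (dU m),
        ((ψ : Cfsg.IrrCharacter (Cfsg.Sz F m)) : Cfsg.Sz F m → ℂ) g) := by
  classical
  haveI := Fintype.ofFinite (Cfsg.Sz F m)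
  have hW : ∀ χ ∈ fam (F := F) (m := m) (dW m), (χ : Cfsg.Sz F m → ℂ) g = 0 := fun χ hχ => by
    refine BlockCharsA.DefectZeroVanish.eq_zero_of_singular Nat.prime_two χ ?_ (hg.even_orderOf hm hF)
    rw [two_pow_factorization hm hF]
    show _ ∣ dg χ
    rw [mem_fam.1 hχ, dW, show 4 * (2 ^ m) ^ 4 = 2 ^ (2 * (2 * m + 1)) by
      rw [← pow_mul, show 2 * (2 * m + 1) = m * 4 + 2 by ring, pow_add]; ring]
  refine ⟨hW, fun χ hχ => ?_⟩
  have h := second_orthogonality g y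
  rw [if_neg fun e => hy.notTr (isTrType_of_isConj hm hF hg e), sum_supp hm hF hk _
    (fun ψ h0 h1 h2 h3 => by rw [hy.supp ψ h0 h1 h2 h3, map_zero, mul_zero])] at h
  rw [Finset.sum_eq_zero (fun ψ hψ => by rw [hW ψ hψ, zero_mul]),
    Finset.sum_congr rfl (fun ψ hψ => by rw [hy.real, hy.atU ψ hψ] :
      ∀ ψ ∈ fam (dU m), _ = (ψ : Cfsg.Sz F m → ℂ) g * (vU : ℂ)),
    Finset.sum_congr rfl (fun ψ hψ => by rw [hy.real, hy.const g hg ψ hψ χ hχ] :
      ∀ ψ ∈ fam (F := F) (m := m) X,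
        _ = (χ : Cfsg.Sz F m → ℂ) g * (ψ : Cfsg.Sz F m → ℂ) y),
    ← Finset.sum_mul, ← Finset.mul_sum, hy.sumE] at h
  simp only [trivIrr_coe, map_one, mul_one, zero_add] at h
  obtain ⟨-, -, -, -, -, -, -, hs, -⟩ := hk.facts hm
  have hs' : (sig : ℂ) ^ 2 = 1 := by exact_mod_cast hs
  linear_combination (sig : ℂ) * h - (χ : Cfsg.Sz F m → ℂ) g * hs'

/-- The summand of the class multiplication sum. -/
noncomputable def term (x g : Cfsg.Sz F m) (χ : Cfsg.IrrCharacter (Cfsg.Sz F m)) : ℂ :=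
  (χ : Cfsg.Sz F m → ℂ) x * (χ : Cfsg.Sz F m → ℂ) x * conj ((χ : Cfsg.Sz F m → ℂ) g) /
    (χ : Cfsg.Sz F m → ℂ) 1

omit hm hF in
theorem apply_one_of_mem {d : ℕ} {χ : Cfsg.IrrCharacter (Cfsg.Sz F m)} (h : χ ∈ fam d) :
    (χ : Cfsg.Sz F m → ℂ) 1 = (d : ℂ) := by
  rw [← mem_fam.1 h]; exact (BlocksChars.Degrees.charDegree_cast χ).symm

theorem term_triv (x g : Cfsg.Sz F m) : term x g (trivIrr (Cfsg.Sz F m)) = 1 := by
  simp [term]

theorem norm_sq_eq (z : ℂ) : ((‖z‖ : ℂ)) ^ 2 = z * conj z := (Complex.mul_conj' z).symm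

/-- Two torus elements. -/
theorem torus_torus {x g : Cfsg.Sz F m} {k X Q k' X' Q' : ℕ} {sig vW vU sig' vW' vU' : ℤ}
    (hk : Kind m k X Q sig vW vU) (hx : TorElt hF x X Q sig vW vU)
    (hk' : Kind m k' X' Q' sig' vW' vU') (hg : TorElt hF g X' Q' sig' vW' vU') :
    ∑ χ, term x g χ ≠ 0 := by
  classical
  obtain ⟨n1, n2, n3, n4, n5, n6, -, -, hvW, hvU, hQb, hQX, hUX, hW64, hU14⟩ := hk.facts hm
  obtain ⟨-, -, -, -, -, -, -, -, hvW', hvU', hQb', -⟩ := hk'.facts hm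
  refine ne_zero_of_norm_sub_one ?_
  rw [sum_supp hm hF hk _ (fun χ h0 h1 h2 h3 => by simp [term, hx.supp χ h0 h1 h2 h3]),
    term_triv hm hF, add_sub_cancel_left]
  refine lt_of_le_of_lt (norm_add₃_le) ?_
  have bW : ‖∑ χ ∈ fam (dW m), term x g χ‖ ≤ 1 / 64 := by
    refine (norm_sum_le _ _).trans ?_
    rw [Finset.sum_congr rfl fun χ hχ => show ‖term x g χ‖ = 1 / (dW m : ℝ) by
      rw [term, hx.atW χ hχ, hg.atW χ hχ, apply_one_of_mem hχ]
      simp only [map_intCast, norm_div, norm_mul, Complex.norm_intCast, Complex.norm_natCast]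
      rcases sq_eq_one_iff.1 hvW with e | e <;> rcases sq_eq_one_iff.1 hvW' with e' | e' <;>
        simp [e, e'],
      Finset.sum_const, (zero_torus hm hF).2.1, one_smul]
    exact one_div_le_one_div_of_le (by norm_num) (by exact_mod_cast hW64)
  have bU : ‖∑ χ ∈ fam (dU m), term x g χ‖ ≤ 2 / 14 := by
    refine (norm_sum_le _ _).trans ?_
    refine (Finset.sum_le_sum fun χ hχ => show ‖term x g χ‖ ≤ 1 / (14 : ℝ) by
      rw [term, hx.atU χ hχ, hg.atU χ hχ, apply_one_of_mem hχ]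
      simp only [map_intCast, norm_div, norm_mul, Complex.norm_intCast, Complex.norm_natCast]
      refine div_le_div₀ zero_le_one ?_ (by norm_num) (by exact_mod_cast hU14)
      have h1 : |(vU : ℝ)| ≤ 1 := abs_le_one_iff_mul_self_le_one.2 (by
        rw [← sq]; exact_mod_cast hvU)
      have h2 : |(vU' : ℝ)| ≤ 1 := abs_le_one_iff_mul_self_le_one.2 (by
        rw [← sq]; exact_mod_cast hvU')
      exact mul_le_one₀ (mul_le_one₀ h1 (abs_nonneg _) h1) (abs_nonneg _) h2).trans ?_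
    rw [Finset.sum_const, card_small hm hF]
    norm_num
  have bX : ‖∑ χ ∈ fam X, term x g χ‖ ≤ 4 / 5 := by
    by_cases hXX : X' = X
    · subst hXX
      have hQQ : Q = Q' := hk.det hm hk'
      subst hQQ
      set R : ℝ := 2 * ((2 ^ m : ℕ) : ℝ) - 1 with hR
      have hR0 : 0 ≤ R := by
        have : (1 : ℝ) ≤ ((2 ^ m : ℕ) : ℝ) := by exact_mod_cast Nat.one_le_two_pow
        linarith
      have hQR : (Q : ℝ) ≤ R ^ 2 := by rw [hR]; exact_mod_cast hQb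
      have hsq : ∀ {y : Cfsg.Sz F m} {sig vW vU : ℤ}, TorElt hF y X' Q sig vW vU →
          ∑ χ ∈ fam (F := F) (m := m) X',
            ‖((χ : Cfsg.IrrCharacter (Cfsg.Sz F m)) : Cfsg.Sz F m → ℂ) y‖ ^ 2 = (Q : ℝ) := by
        intro y sig vW vU hy
        apply Complex.ofReal_injective
        push_cast
        rw [← hy.sqE]
        refine Finset.sum_congr rfl fun χ _ => ?_
        rw [norm_sq_eq hm hF, hy.real, sq]
      have hXpos : 0 < (X' : ℝ) := by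
        have : 0 < X' := lt_of_lt_of_le (by omega) hUX
        exact_mod_cast this
      refine (norm_sum_le _ _).trans ?_
      refine (Finset.sum_le_sum fun χ hχ => show ‖term x g χ‖ ≤
          ‖(χ : Cfsg.Sz F m → ℂ) x‖ ^ 2 * R / X' by
        rw [term, apply_one_of_mem hχ, norm_div, norm_mul, norm_mul, Complex.norm_natCast,
          Complex.norm_conj, ← sq]
        refine div_le_div_of_nonneg_right (mul_le_mul_of_nonneg_left ?_ (sq_nonneg _)) hXpos.le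
        refine abs_le_of_sq_le_sq' ?_ hR0 |>.2
        refine le_trans ?_ hQR
        rw [← hsq hg]
        exact Finset.single_le_sum (f := fun ψ : Cfsg.IrrCharacter (Cfsg.Sz F m) =>
          ‖(ψ : Cfsg.Sz F m → ℂ) g‖ ^ 2) (fun _ _ => sq_nonneg _) hχ).trans ?_
      rw [← Finset.sum_div, ← Finset.sum_mul, hsq hx, div_le_div_iff₀ hXpos (by norm_num)]
      have h5 : 5 * (Q : ℝ) * R ≤ 4 * X' := by rw [hR]; exact_mod_cast hQX
      linarith
    · rw [Finset.sum_eq_zero fun χ hχ => ?_, norm_zero]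
      · norm_num
      · have hd := mem_fam.1 hχ
        rw [term, hg.supp χ (fun e => n1 (by rw [← hd, e, dg_triv hm hF]))
          (by rw [hd]; exact n2) (by rw [hd]; exact n3) (by rw [hd]; exact Ne.symm hXX)]
        simp
  linarith

/-- A translation of order four and a torus element. -/
theorem tr_torus {a b : F} (ha : a ≠ 0) {g : Cfsg.Sz F m} {k X Q : ℕ} {sig vW vU : ℤ}
    (hk : Kind m k X Q sig vW vU) (hg : TorElt hF g X Q sig vW vU) :
    ∑ χ, term (tr hF a b) g χ ≠ 0 := by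
  classical
  set x : Cfsg.Sz F m := tr hF a b
  have hxtr : IsTrType hF x := ⟨1, a, b, Or.inl ha, by group; rfl⟩
  obtain ⟨hW0, hXv⟩ := tr_value hm hF hk hg hxtr
  obtain ⟨n1, n2, n3, n4, n5, n6, -, hsig, -, hvU, -, -, hUX, -, hU14⟩ := hk.facts hm
  obtain ⟨χ₀, hχ₀⟩ : (fam (F := F) (m := m) X).Nonempty := by
    rw [Finset.nonempty_iff_ne_empty]
    intro e
    have h := hg.sumE
    rw [e, Finset.sum_empty] at h
    have : (sig : ℤ) = 0 := by exact_mod_cast h.symm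
    rw [this] at hsig; norm_num at hsig
  set μ := (χ₀ : Cfsg.Sz F m → ℂ) x with hμ
  refine ne_zero_of_norm_sub_one ?_
  rw [sum_supp hm hF hk _ (fun χ h0 h1 h2 h3 => by simp [term, hg.supp χ h0 h1 h2 h3]),
    term_triv hm hF, add_sub_cancel_left,
    Finset.sum_eq_zero (fun χ hχ => by simp [term, hW0 χ hχ] : ∀ χ ∈ fam (dW m), term x g χ = 0),
    zero_add]
  have eX : ∑ χ ∈ fam X, term x g χ = μ * μ * (sig : ℂ) / (X : ℂ) := by
    rw [← hg.sumE, Finset.mul_sum, Finset.sum_div]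
    refine Finset.sum_congr rfl fun χ hχ => ?_
    rw [term, apply_one_of_mem hχ, hg.real, hXv χ hχ, hμ, hXv χ₀ hχ₀]
  rw [eX]
  have hX0 : (14 : ℝ) ≤ X := by exact_mod_cast le_trans hU14 hUX
  obtain ⟨hkk, hXX, hsg, hvv⟩ | hk' : (k = 2 ^ (2 * m + 1) - 1 ∧ X = dX m ∧ sig = -1 ∧ vU = 0) ∨
      (sig = 1 ∧ (vU = 1 ∨ vU = -1) ∧ (X = dT m (kMinus m) ∨ X = dT m (kPlus m))) := by
    rcases hk.alts with h | ⟨-, e, e1, e2⟩ | ⟨-, e, e1, e2⟩
    exacts [Or.inl h, Or.inr ⟨e1, Or.inl e2, Or.inl e⟩, Or.inr ⟨e1, Or.inr e2, Or.inr e⟩]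
  · subst hvv hsg
    rw [Finset.sum_eq_zero (fun χ hχ => by simp [term, hg.atU χ hχ] :
      ∀ χ ∈ fam (dU m), term x g χ = 0), zero_add, hμ, hXv χ₀ hχ₀]
    simp only [Int.cast_neg, Int.cast_one, Int.cast_zero, zero_mul, add_zero, neg_neg, mul_one,
      one_mul, norm_div, norm_neg, norm_one, Complex.norm_natCast]
    rw [div_lt_one (by linarith)]
    linarith
  · obtain ⟨hsg, hvv, hXX⟩ := hk'
    subst hsg
    obtain ⟨A, hA, hA2, -, -, -, -, eXd, eU, -⟩ := casts hm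
    have hsum : ∑ χ ∈ fam (F := F) (m := m) (dU m),
          ‖((χ : Cfsg.IrrCharacter (Cfsg.Sz F m)) : Cfsg.Sz F m → ℂ) x‖ ^ 2 + ‖μ‖ ^ 2
        ≤ 3 * (A : ℝ) ^ 2 := by
      have h := second_orthogonality x x
      rw [if_pos (IsConj.refl _)] at h
      have h' : ∑ χ : Cfsg.IrrCharacter (Cfsg.Sz F m), ‖(χ : Cfsg.Sz F m → ℂ) x‖ ^ 2 =
          (Nat.card (Subgroup.centralizer ({x} : Set (Cfsg.Sz F m))) : ℝ) := by
        apply Complex.ofReal_injective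
        push_cast
        rw [← h]
        exact Finset.sum_congr rfl fun χ _ => norm_sq_eq hm hF _
      have hC : (Nat.card (Subgroup.centralizer ({x} : Set (Cfsg.Sz F m))) : ℝ) ≤ 4 * (A : ℝ) ^ 2 := by
        have h1 := card_centralizer_tr_le hm hF (b := b) ha
        rw [hF] at h1
        have e : ((2 * 2 ^ (2 * m + 1) : ℕ) : ℤ) = 4 * A ^ 2 := by
          rw [hA]; push_cast; rw [pow_succ', ← pow_mul, mul_comm m 2]; ring
        calc (Nat.card (Subgroup.centralizer ({x} : Set (Cfsg.Sz F m))) : ℝ)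
            ≤ ((2 * 2 ^ (2 * m + 1) : ℕ) : ℝ) := by exact_mod_cast h1
          _ = _ := by exact_mod_cast e
      obtain ⟨h0, hX0', hcardX⟩ := zero_torus (F := F) hm hF
      obtain ⟨y₀, hy₀, hy₀1⟩ : ∃ y : Cfsg.Sz F m, y ∈ torusSubgroup hF ∧ y ≠ 1 :=
        (torusSubgroup (m := m) hF).bot_or_exists_ne_one.resolve_left
          (isTor_torusSubgroup hm hF).1
      obtain ⟨k0, X0, Q0, s0, w0, u0, hk0, hy⟩ := exists_torElt hm hF hy₀1
        ((isTor_torusSubgroup hm hF).not_trType hm hF hy₀)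
      have hX1 : ∀ χ ∈ fam (F := F) (m := m) (dX m), ‖(χ : Cfsg.Sz F m → ℂ) x‖ ^ 2 = 1 := by
        intro χ hχ
        have hW' := hW0
        have ho := second_orthogonality x y₀
        rw [if_neg fun e => (isTor_torusSubgroup hm hF).not_trType hm hF hy₀
          (isTrType_of_isConj hm hF hxtr e), sum_supp hm hF (Kind.zero (m := m)) _
          (fun ψ e0 e1 e2 e3 => by
            rw [h0.supp y₀ hy₀ hy₀1 ψ e0 e1 e2 e3, map_zero, mul_zero])] at ho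
        rw [Finset.sum_eq_zero (fun ψ hψ => by rw [hW' ψ hψ, zero_mul]),
          Finset.sum_eq_zero (s := fam (dU m)) (fun ψ hψ => by
            rw [h0.atU y₀ hy₀ hy₀1 ψ hψ]; simp),
          Finset.sum_congr rfl (fun ψ hψ => by
            rw [h0.const x hxtr ψ hψ χ hχ] : ∀ ψ ∈ fam (dX m), _ =
              (χ : Cfsg.Sz F m → ℂ) x * conj ((ψ : Cfsg.Sz F m → ℂ) y₀)),
          ← Finset.mul_sum, ← map_sum, h0.sumE y₀ hy₀ hy₀1] at ho
        simp only [trivIrr_coe, map_one, map_neg, mul_one, Int.cast_neg, Int.cast_one, zero_add,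
          add_zero] at ho
        rw [show (χ : Cfsg.Sz F m → ℂ) x = 1 by linear_combination -ho]
        simp
      have hne1 : dX m ≠ dU m ∧ X ≠ dX m ∧ dX m ≠ 1 := by
        obtain ⟨e1, e2, e3, -⟩ := (Kind.zero (m := m)).facts hm
        refine ⟨e3, ?_, e1⟩
        obtain ⟨A', -, hA2', -, -, -, -, eX', -, eP, eM⟩ := casts hm
        intro e
        have e' : (X : ℤ) = 4 * A' ^ 4 + 1 := by rw [e, eX']
        rcases hXX with h | h <;> rw [h] at e'
        · rw [eM] at e'; nlinarith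
        · rw [eP] at e'; nlinarith
      have hsub := Finset.sum_le_sum_of_subset_of_nonneg
        (f := fun χ : Cfsg.IrrCharacter (Cfsg.Sz F m) => ‖(χ : Cfsg.Sz F m → ℂ) x‖ ^ 2)
        (Finset.subset_univ (insert (trivIrr (Cfsg.Sz F m))
          (insert χ₀ (fam (dX m) ∪ fam (dU m))))) fun _ _ _ => sq_nonneg _
      rw [h', Finset.sum_insert (by
          simp only [Finset.mem_insert, Finset.mem_union, mem_fam, dg_triv hm hF, not_or]
          exact ⟨fun e => n1 (by rw [← mem_fam.1 hχ₀, ← e, dg_triv hm hF]), hne1.2.2.symm, n5.symm⟩),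
        Finset.sum_insert (by
          simp only [Finset.mem_union, mem_fam, mem_fam.1 hχ₀, not_or]
          exact ⟨hne1.2.1, n3⟩),
        Finset.sum_union (Finset.disjoint_left.2 fun χ h1 h2 =>
          hne1.1 ((mem_fam.1 h1).symm.trans (mem_fam.1 h2))),
        Finset.sum_congr rfl hX1, Finset.sum_const, nsmul_eq_mul, mul_one] at hsub
      simp only [trivIrr_coe, norm_one, one_pow, ← hμ] at hsub
      have hcc : ((fam (F := F) (m := m) (dX m)).card : ℝ) + 1 = (A : ℝ) ^ 2 := by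
        have : (((fam (F := F) (m := m) (dX m)).card + 1 : ℕ) : ℤ) = A ^ 2 := by
          rw [hcardX, hA]; push_cast; rfl
        exact_mod_cast this
      linarith
    have hU0 : (0 : ℝ) < dU m := by exact_mod_cast lt_of_lt_of_le (by norm_num) hU14
    refine lt_of_le_of_lt (norm_add_le _ _) ?_
    calc ‖∑ χ ∈ fam (dU m), term x g χ‖ + ‖μ * μ * ((1 : ℤ) : ℂ) / (X : ℂ)‖
        ≤ (∑ χ ∈ fam (F := F) (m := m) (dU m),
            ‖((χ : Cfsg.IrrCharacter (Cfsg.Sz F m)) : Cfsg.Sz F m → ℂ) x‖ ^ 2) / dU m +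
          ‖μ‖ ^ 2 / dU m := by
          refine add_le_add ((norm_sum_le _ _).trans ?_) ?_
          · rw [Finset.sum_div]
            refine Finset.sum_le_sum fun χ hχ => ?_
            rw [term, hg.atU χ hχ, apply_one_of_mem hχ]
            rcases hvv with e | e <;> simp [sq, e]
          · simp only [Int.cast_one, mul_one, norm_div, Complex.norm_natCast, ← sq, norm_pow]
            exact div_le_div_of_nonneg_left (sq_nonneg _) hU0 (show (dU m : ℝ) ≤ (X : ℝ) by exact_mod_cast hUX)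
      _ ≤ 3 * (A : ℝ) ^ 2 / dU m := by rw [← add_div]; exact div_le_div_of_nonneg_right hsum hU0.le
      _ < 1 := by
          rw [div_lt_one hU0]
          have h3 : 3 * A ^ 2 < (dU m : ℤ) := by rw [eU]; nlinarith
          exact_mod_cast h3

set_option maxHeartbeats 1000000 in
/-- A torus element and a translation. -/
theorem torus_tr {x g : Cfsg.Sz F m} {k X Q : ℕ} {sig vW vU : ℤ}
    (hk : Kind m k X Q sig vW vU) (hx : TorElt hF x X Q sig vW vU) (hg : IsTrType hF g) :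
    ∑ χ, term x g χ ≠ 0 := by
  classical
  obtain ⟨hW0, hXv⟩ := tr_value hm hF hk hx hg
  obtain ⟨n1, n2, n3, n4, n5, n6, hQk, hsig, -, hvU, -, -, hUX, -, hU14⟩ := hk.facts hm
  set S := ∑ ψ ∈ fam (F := F) (m := m) (dU m),
    ((ψ : Cfsg.IrrCharacter (Cfsg.Sz F m)) : Cfsg.Sz F m → ℂ) g with hS
  have hdX : (X : ℂ) ≠ 0 := Nat.cast_ne_zero.2 (by omega)
  have hdU : (dU m : ℂ) ≠ 0 := Nat.cast_ne_zero.2 (by omega)
  have htot : ∑ χ, term x g χ = 1 + (vU : ℂ) ^ 2 * conj S / (dU m : ℂ) +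
      -(sig : ℂ) * (1 + (vU : ℂ) * conj S) * (Q : ℂ) / (X : ℂ) := by
    rw [sum_supp hm hF hk _ (fun χ h0 h1 h2 h3 => by simp [term, hx.supp χ h0 h1 h2 h3]),
      term_triv hm hF, Finset.sum_eq_zero (fun χ hχ => by simp [term, hW0 χ hχ] :
        ∀ χ ∈ fam (dW m), term x g χ = 0), zero_add, add_assoc]
    congr 1; congr 1
    · rw [hS, map_sum, Finset.mul_sum, Finset.sum_div]
      refine Finset.sum_congr rfl fun χ hχ => ?_
      rw [term, hx.atU χ hχ, apply_one_of_mem hχ, sq]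
    · rw [← hx.sqE, Finset.mul_sum, Finset.sum_div]
      refine Finset.sum_congr rfl fun χ hχ => ?_
      rw [term, apply_one_of_mem hχ, hXv χ hχ, map_mul, map_add, map_neg, map_mul, map_one,
        map_intCast, map_intCast]
      ring
  rw [htot]
  obtain ⟨A, hA, hA2, hw, hp, hn, -, eX', eU, eP, eM⟩ := casts hm
  obtain ⟨hkk, hXX, hsg, hvv⟩ | hk' : (k = 2 ^ (2 * m + 1) - 1 ∧ X = dX m ∧ sig = -1 ∧ vU = 0) ∨
      (sig = 1 ∧ (k = kPlus m ∧ X = dT m (kMinus m) ∧ vU = 1 ∨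
        k = kMinus m ∧ X = dT m (kPlus m) ∧ vU = -1)) := by
    rcases hk.alts with h | ⟨e0, e, e1, e2⟩ | ⟨e0, e, e1, e2⟩
    exacts [Or.inl h, Or.inr ⟨e1, Or.inl ⟨e0, e, e2⟩⟩, Or.inr ⟨e1, Or.inr ⟨e0, e, e2⟩⟩]
  · intro e
    subst hvv hsg
    simp only [Int.cast_zero, Int.cast_neg, Int.cast_one, ne_eq, OfNat.ofNat_ne_zero,
      not_false_eq_true, zero_pow, zero_mul, zero_div, add_zero, neg_neg, mul_one, one_mul] at e
    have h2 : ((X + Q : ℕ) : ℂ) = 0 := by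
      push_cast
      field_simp at e
      linear_combination e
    have h3 := Nat.cast_eq_zero.1 h2
    omega
  · obtain ⟨hsg, hcase⟩ := hk'
    subst hsg
    intro e
    -- the only possible value of `S` is real and too large
    obtain ⟨c, hc⟩ : ∃ c : ℤ, (c : ℂ) = (X : ℂ) * (vU : ℂ) ^ 2 - (vU : ℂ) * Q * dU m :=
      ⟨(X : ℤ) * vU ^ 2 - vU * Q * dU m, by push_cast; rfl⟩
    obtain ⟨d, hd⟩ : ∃ d : ℤ, (d : ℂ) = (dU m : ℂ) * Q - (dU m : ℂ) * X :=
      ⟨(dU m : ℤ) * Q - dU m * X, by push_cast; rfl⟩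
    have hlin : conj S * (c : ℂ) = (d : ℂ) := by
      rw [hc, hd]
      field_simp at e
      push_cast at e ⊢
      linear_combination e
    have hd0 : d ≠ 0 := by
      have hd' : d = (dU m : ℤ) * Q - dU m * X := by exact_mod_cast hd
      have hQX : Q < X := by
        have h1 : (Q : ℤ) ≤ X - 1 := by
          have : (0 : ℤ) < A ^ 2 := by positivity
          rcases hcase with ⟨e0, e1, e2⟩ | ⟨e0, e1, e2⟩ <;> rw [e2] at hQk <;> rw [e0] at hQk <;>
            norm_num at hQk <;> rw [e1]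
          · rw [eM]; rw [hp] at hQk; nlinarith
          · rw [eP]; rw [hn] at hQk; nlinarith
        omega
      intro h
      rw [h] at hd'
      have : (dU m : ℤ) * Q = dU m * X := by linarith
      have := mul_left_cancel₀ (by omega : (dU m : ℤ) ≠ 0) this
      omega
    have hc0 : (c : ℂ) ≠ 0 := fun h => by
      rw [h, mul_zero] at hlin; exact hd0 (by exact_mod_cast hlin.symm)
    set r : ℝ := (d : ℝ) / (c : ℝ) with hr
    have hSr : S = (r : ℂ) := by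
      have h1 : conj S = (r : ℂ) := by
        rw [hr]; push_cast
        rw [eq_div_iff hc0, hlin]
      rw [← Complex.conj_conj S, h1, Complex.conj_ofReal]
    have hlinR : r * (c : ℝ) = (d : ℝ) := by
      rw [hr, div_mul_cancel₀]
      exact_mod_cast hc0
    -- the family of the torus of order `q + 2 a + 1`
    obtain ⟨z, -, hz, -, e1, -⟩ := exists_two_tori (F := F) hm hF
    obtain ⟨k1, X1, Q1, s1, w1, u1, hk1, hy⟩ := exists_torElt hm hF hz.ne_one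
      ((isTor_of_fpf hm hF hz).not_trType hm hF (Subgroup.mem_centralizer_singleton_iff.2 rfl))
    obtain ⟨hP, -, hcardP⟩ := plus_torus hm hF (isTor_of_fpf hm hF hz) e1
    have hPv : ∀ χ ∈ fam (F := F) (m := m) (dT m (kMinus m)),
        ‖(χ : Cfsg.Sz F m → ℂ) g‖ ^ 2 = (1 + r) ^ 2 := by
      intro χ hχ
      have hzT : z ∈ Subgroup.centralizer ({z} : Set (Cfsg.Sz F m)) :=
        Subgroup.mem_centralizer_singleton_iff.2 rfl
      have ho := second_orthogonality g z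
      rw [if_neg fun e' => (isTor_of_fpf hm hF hz).not_trType hm hF hzT
        (isTrType_of_isConj hm hF hg e'), sum_supp hm hF (Kind.plus (m := m)) _
        (fun ψ e0 e1 e2 e3 => by
          rw [hP.supp z hzT hz.ne_one ψ e0 e1 e2 e3, map_zero, mul_zero])] at ho
      rw [Finset.sum_eq_zero (fun ψ hψ => by rw [hW0 ψ hψ, zero_mul]),
        Finset.sum_congr rfl (fun ψ hψ => by rw [hP.atU z hzT hz.ne_one ψ hψ, map_intCast] :
          ∀ ψ ∈ fam (dU m), _ = (ψ : Cfsg.Sz F m → ℂ) g * ((1 : ℤ) : ℂ)),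
        Finset.sum_congr rfl (fun ψ hψ => by rw [hP.const g hg ψ hψ χ hχ] :
          ∀ ψ ∈ fam (dT m (kMinus m)), _ =
            (χ : Cfsg.Sz F m → ℂ) g * conj ((ψ : Cfsg.Sz F m → ℂ) z)),
        ← Finset.sum_mul, ← hS, hSr, ← Finset.mul_sum, ← map_sum, hP.sumE z hzT hz.ne_one] at ho
      simp only [trivIrr_coe, map_one, mul_one, map_intCast, Int.cast_one, zero_add] at ho
      rw [show (χ : Cfsg.Sz F m → ℂ) g = ((-(1 + r) : ℝ) : ℂ) by push_cast; linear_combination ho,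
        Complex.norm_real, Real.norm_eq_abs, sq_abs, neg_sq]
    have hle : ((fam (F := F) (m := m) (dT m (kMinus m))).card : ℝ) * (1 + r) ^ 2 ≤
        4 * (A : ℝ) ^ 4 := by
      have h := second_orthogonality g g
      rw [if_pos (IsConj.refl _)] at h
      have h' : ∑ χ : Cfsg.IrrCharacter (Cfsg.Sz F m), ‖(χ : Cfsg.Sz F m → ℂ) g‖ ^ 2 =
          (Nat.card (Subgroup.centralizer ({g} : Set (Cfsg.Sz F m))) : ℝ) := by
        apply Complex.ofReal_injective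
        push_cast
        rw [← h]
        exact Finset.sum_congr rfl fun χ _ => norm_sq_eq hm hF _
      have h1 := Finset.sum_le_sum_of_subset_of_nonneg
        (f := fun χ : Cfsg.IrrCharacter (Cfsg.Sz F m) => ‖(χ : Cfsg.Sz F m → ℂ) g‖ ^ 2)
        (Finset.subset_univ (fam (dT m (kMinus m)))) fun _ _ _ => sq_nonneg _
      rw [h', Finset.sum_congr rfl hPv, Finset.sum_const, nsmul_eq_mul] at h1
      refine h1.trans ?_
      have h2 := card_centralizer_tr_le_sq hm hF hg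
      rw [hF] at h2
      have e' : (((2 ^ (2 * m + 1)) ^ 2 : ℕ) : ℤ) = 4 * A ^ 4 := by
        rw [hA]; push_cast; ring
      calc (Nat.card (Subgroup.centralizer ({g} : Set (Cfsg.Sz F m))) : ℝ)
          ≤ (((2 ^ (2 * m + 1)) ^ 2 : ℕ) : ℝ) := by exact_mod_cast h2
        _ = _ := by exact_mod_cast e'
    have hcardR : 2 * ((fam (F := F) (m := m) (dT m (kMinus m))).card : ℝ) =
        (A : ℝ) ^ 2 + A := by
      have : ((2 * (fam (F := F) (m := m) (dT m (kMinus m))).card : ℕ) : ℤ) = A ^ 2 + A := by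
        rw [hcardP, hA]; push_cast; rfl
      exact_mod_cast this
    have hAR : (2 : ℝ) ≤ A := by exact_mod_cast hA2
    have hbig : ((A : ℝ) + 1) * (1 + r) ^ 2 ≤ 8 * (A : ℝ) ^ 3 := by
      have h1 : ((A : ℝ) ^ 2 + A) * (1 + r) ^ 2 ≤ 8 * (A : ℝ) ^ 4 := by
        rw [← hcardR]; linarith
      exact le_of_mul_le_mul_left (by linarith : (A : ℝ) * (((A : ℝ) + 1) * (1 + r) ^ 2) ≤
        (A : ℝ) * (8 * (A : ℝ) ^ 3)) (by linarith)
    have hUR : (dU m : ℝ) = (2 * (A : ℝ) ^ 2 - 1) * A := by exact_mod_cast eU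
    have hMR : (dT m (kMinus m) : ℝ) = (2 * (A : ℝ) ^ 2 - 1) * (2 * (A : ℝ) ^ 2 - 2 * A + 1) := by
      exact_mod_cast eM
    have hPR : (dT m (kPlus m) : ℝ) = (2 * (A : ℝ) ^ 2 - 1) * (2 * (A : ℝ) ^ 2 + 2 * A + 1) := by
      exact_mod_cast eP
    have hpR : (kPlus m : ℝ) = 2 * (A : ℝ) ^ 2 + 2 * A + 1 := by exact_mod_cast hp
    have hnR : (kMinus m : ℝ) = 2 * (A : ℝ) ^ 2 - 2 * A + 1 := by exact_mod_cast hn
    have hQR : (Q : ℝ) + 4 = k := by
      have : (Q : ℤ) + 4 = k := by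
        rcases hcase with ⟨-, -, e2⟩ | ⟨-, -, e2⟩ <;> rw [e2] at hQk <;> linarith
      exact_mod_cast this
    have hcR : (c : ℝ) = (X : ℝ) * (vU : ℝ) ^ 2 - (vU : ℝ) * Q * dU m := by
      have : c = (X : ℤ) * vU ^ 2 - vU * Q * dU m := by exact_mod_cast hc
      rw [this]; push_cast; rfl
    have hdR : (d : ℝ) = (dU m : ℝ) * Q - (dU m : ℝ) * X := by
      have : d = (dU m : ℤ) * Q - dU m * X := by exact_mod_cast hd
      rw [this]; push_cast; rfl
    rw [hcR, hdR] at hlinR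
    push_cast at hlinR
    have hw0 : (0 : ℝ) < 2 * (A : ℝ) ^ 2 - 1 := by nlinarith
    rcases hcase with ⟨ek, eXk, ev⟩ | ⟨ek, eXk, ev⟩ <;> subst ev <;> rw [ek] at hQR <;>
      rw [eXk] at hlinR <;> push_cast at hlinR
    · -- order `q + 2 a + 1`
      have hQ : (Q : ℝ) = 2 * (A : ℝ) ^ 2 + 2 * A - 3 := by linarith
      have hl : r * ((Q : ℝ) * A - (2 * (A : ℝ) ^ 2 - 2 * A + 1)) =
          A * ((dT m (kMinus m) : ℝ) - Q) := by
        refine mul_left_cancel₀ hw0.ne' ?_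
        rw [hUR] at hlinR
        linear_combination -hlinR + r * hMR
      rw [hQ, hMR] at hl
      exact root_plus hAR hl hbig
    · -- order `q - 2 a + 1`
      have hQ : (Q : ℝ) = 2 * (A : ℝ) ^ 2 - 2 * A - 3 := by linarith
      have hl : r * ((Q : ℝ) * A + (2 * (A : ℝ) ^ 2 + 2 * A + 1)) =
          -(A * ((dT m (kPlus m) : ℝ) - Q)) := by
        refine mul_left_cancel₀ hw0.ne' ?_
        rw [hUR] at hlinR
        linear_combination hlinR - r * hPR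
      rw [hQ, hPR] at hl
      exact root_minus hAR hl hbig

theorem square_cover (x : Cfsg.Sz F m) (hx : 2 < orderOf x) (g : Cfsg.Sz F m) (hg : g ≠ 1) :
    ∃ u v : Cfsg.Sz F m, g = u * x * u⁻¹ * (v * x * v⁻¹) := by
  classical
  haveI := Fintype.ofFinite (Cfsg.Sz F m)
  have hx1 : x ≠ 1 := by rintro rfl; simp at hx
  by_cases hxt : IsTrType hF x
  · obtain ⟨h, a, b, hab, he⟩ := hxt
    have ha : a ≠ 0 := by
      intro e
      subst e
      rw [← orderOf_conj_eq h x, he, orderOf_center_tr hF (hab.resolve_left fun h => h rfl)] at hx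
      exact lt_irrefl _ hx
    have key : ∃ u v : Cfsg.Sz F m, g = u * tr hF a b * u⁻¹ * (v * tr hF a b * v⁻¹) := by
      by_cases hgt : IsTrType hF g
      · obtain ⟨h', c, d, hcd, he'⟩ := hgt
        obtain ⟨u, v, huv⟩ := tr_cover hm hF (b := b) ha hcd
        refine ⟨h'⁻¹ * u, h'⁻¹ * v, ?_⟩
        calc g = h'⁻¹ * (h' * g * h'⁻¹) * h' := by group
          _ = _ := by rw [he', huv]; group
      · obtain ⟨k, X, Q, sig, vW, vU, hk, hG⟩ := exists_torElt hm hF hg hgt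
        exact exists_of_charSum_ne_zero _ _ (tr_torus hm hF ha hk hG)
    obtain ⟨u, v, huv⟩ := key
    exact ⟨u * h, v * h, by rw [huv, ← he]; group⟩
  · obtain ⟨k, X, Q, sig, vW, vU, hk, hX⟩ := exists_torElt hm hF hx1 hxt
    refine exists_of_charSum_ne_zero _ _ ?_
    by_cases hgt : IsTrType hF g
    · exact torus_tr hm hF hk hX hgt
    · obtain ⟨k', X', Q', sig', vW', vU', hk', hG⟩ := exists_torElt hm hF hg hgt
      exact torus_torus hm hF hk hX hk' hG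

end Cfsg.Agent.BlocksChars.SuzukiDegrees
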