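import Cfsg.Agent.BlocksChars.SuzukiDegrees.Group

/-!
# The values of the irreducible characters of `Sz(q)` on its tori, by degree

With `a = 2 ^ m`, `q = 2 a ^ 2`, `w = q - 1`: outside the trivial character and the degrees
`q ^ 2`, `a w` and one exceptional degree, every irreducible character vanishes on a torus.
-/

set_option autoImplicit false
set_option linter.unusedSectionVars false
set_option linter.unusedVariables false
set_option linter.style.haveILetI false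

namespace Cfsg.Agent.BlocksChars.SuzukiDegrees

open Cfsg.Agent.Suzuki Cfsg.Agent.Characters Cfsg.Agent.SmallSimple.Exceptional

variable {F : Type*} [Field F] [Fintype F] [CharP F 2] {m : ℕ}

/-- The degree. -/
noncomputable abbrev dg (χ : Cfsg.IrrCharacter (Cfsg.Sz F m)) : ℕ :=
  Cfsg.charDegree (χ : Cfsg.Sz F m → ℂ)

/-- The irreducible characters of degree `d`. -/
noncomputable def fam [Fintype (Cfsg.IrrCharacter (Cfsg.Sz F m))] (d : ℕ) :
    Finset (Cfsg.IrrCharacter (Cfsg.Sz F m)) :=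
  Finset.univ.filter fun χ => dg χ = d

theorem mem_fam [Fintype (Cfsg.IrrCharacter (Cfsg.Sz F m))] {d : ℕ}
    {χ : Cfsg.IrrCharacter (Cfsg.Sz F m)} : χ ∈ fam d ↔ dg χ = d := by simp [fam]

/-- The degree `q ^ 2`. -/
def dW (m : ℕ) : ℕ := 4 * (2 ^ m) ^ 4

/-- The degree `(q - 1) a`. -/
def dU (m : ℕ) : ℕ := (2 ^ (2 * m + 1) - 1) * 2 ^ m

/-- The degree `q ^ 2 + 1`. -/
def dX (m : ℕ) : ℕ := 4 * (2 ^ m) ^ 4 + 1

/-- The degree `(q - 1) k`. -/
def dT (m k : ℕ) : ℕ := (2 ^ (2 * m + 1) - 1) * k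

/-- The values on a torus. -/
structure TVals [Fintype (Cfsg.IrrCharacter (Cfsg.Sz F m))] (hF : Fintype.card F = 2 ^ (2 * m + 1))
    (T : Subgroup (Cfsg.Sz F m)) (X : ℕ) (sig vW vU : ℤ) : Prop where
  supp : ∀ y ∈ T, y ≠ 1 → ∀ χ : Cfsg.IrrCharacter (Cfsg.Sz F m), χ ≠ trivIrr (Cfsg.Sz F m) →
    dg χ ≠ dW m → dg χ ≠ dU m → dg χ ≠ X → ((χ : Cfsg.IrrCharacter (Cfsg.Sz F m)) : Cfsg.Sz F m → ℂ) y = 0
  atW : ∀ y ∈ T, y ≠ 1 → ∀ χ ∈ fam (F := F) (m := m) (dW m), (χ : Cfsg.Sz F m → ℂ) y = (vW : ℂ)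
  atU : ∀ y ∈ T, y ≠ 1 → ∀ χ ∈ fam (F := F) (m := m) (dU m), (χ : Cfsg.Sz F m → ℂ) y = (vU : ℂ)
  sumE : ∀ y ∈ T, y ≠ 1 →
    ∑ χ ∈ fam (F := F) (m := m) X, ((χ : Cfsg.IrrCharacter (Cfsg.Sz F m)) : Cfsg.Sz F m → ℂ) y = (sig : ℂ)
  const : ∀ g, IsTrType hF g → ∀ χ ∈ fam (F := F) (m := m) X, ∀ χ' ∈ fam (F := F) (m := m) X,
    (χ : Cfsg.Sz F m → ℂ) g = (χ' : Cfsg.Sz F m → ℂ) g

/-- The numerical facts. -/
theorem numbers (hm : 1 ≤ m) :
    (2 ≤ 2 ^ m) ∧ ((2 ^ (2 * m + 1) - 1 : ℕ) : ℤ) = 2 * ((2 ^ m : ℕ) : ℤ) ^ 2 - 1 ∧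
      (kPlus m : ℤ) = 2 * ((2 ^ m : ℕ) : ℤ) ^ 2 + 2 * ((2 ^ m : ℕ) : ℤ) + 1 ∧
      (kMinus m : ℤ) = 2 * ((2 ^ m : ℕ) : ℤ) ^ 2 - 2 * ((2 ^ m : ℕ) : ℤ) + 1 := by
  have hq : 2 ^ (2 * m + 1) = 2 * (2 ^ m) ^ 2 := by rw [pow_succ', ← pow_mul, mul_comm m 2]
  have hr : 2 ^ (m + 1) = 2 * 2 ^ m := pow_succ' 2 m
  have h := two_mul_r_le hm
  refine ⟨le_trans (le_of_eq (pow_one 2).symm) (Nat.pow_le_pow_right (by norm_num) hm), ?_, ?_, ?_⟩
  · have : 1 ≤ 2 ^ (2 * m + 1) := Nat.one_le_two_pow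
    push_cast [this]
    rw [pow_succ', ← pow_mul, mul_comm m 2]
  · rw [kPlus, hq, hr]; push_cast; ring
  · rw [kMinus, Nat.cast_add, Nat.cast_sub (by omega), hq, hr]; push_cast; ring

variable (hm : 1 ≤ m) (hF : Fintype.card F = 2 ^ (2 * m + 1))
include hm hF

theorem not_commutative : ¬ IsMulCommutative (Cfsg.Sz F m) := fun h => by
  obtain ⟨s, hs⟩ := exists_unit_ne_one (F := F) hm hF
  have h1 : (tr hF 1 0 : Cfsg.Sz F m) ∈ Subgroup.centralizer {tor hF s} :=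
    Subgroup.mem_centralizer_singleton_iff.2 (h.is_comm.comm _ _)
  rw [centralizer_tor hm hF hs] at h1
  exact (isTor_torusSubgroup hm hF).not_trType hm hF h1 ⟨1, 1, 0, Or.inl one_ne_zero, by group⟩

theorem degree_cases {χ : Cfsg.IrrCharacter (Cfsg.Sz F m)} (hne : χ ≠ trivIrr (Cfsg.Sz F m)) :
    dg χ = dW m ∨ dg χ = dX m ∨ dg χ = dT m (kPlus m) ∨ dg χ = dT m (kMinus m) ∨ dg χ = dU m := by
  haveI := isSimple (F := F) hm hF
  haveI := Fintype.ofFinite (Cfsg.Sz F m)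
  have h1 := degree_ne_one (not_commutative hm hF) hne (BlocksChars.Degrees.charDegree_cast χ).symm
  rcases (degShape_Sz (F := F) hm hF).1 (dg χ) ⟨χ, rfl⟩ with h | h
  · exact absurd h (by unfold dg at *; omega)
  · exact h

theorem exists_data {T : Subgroup (Cfsg.Sz F m)} (hT : IsTor T) {k e t : ℕ} (hk : Nat.card T = k)
    (hn : Nat.card (Subgroup.normalizer (T : Set (Cfsg.Sz F m))) = e * k) (het : e * t + 1 = k)
    (ht : 2 ≤ t) :
    ∃ D : TData (fun χ : Cfsg.IrrCharacter (Cfsg.Sz F m) => dg χ) (trivIrr (Cfsg.Sz F m)) k e t,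
      (∀ y ∈ T, y ≠ 1 →
        (∑ j, ((D.mu j : Cfsg.IrrCharacter (Cfsg.Sz F m)) : Cfsg.Sz F m → ℂ) y =
          (t : ℂ) * D.c + D.eps) ∧
        (∀ χ ∈ D.R, (χ : Cfsg.Sz F m → ℂ) y = (D.f χ : ℂ)) ∧
        ∀ χ, χ ≠ trivIrr (Cfsg.Sz F m) → χ ∉ D.R → (∀ j, D.mu j ≠ χ) →
          (χ : Cfsg.Sz F m → ℂ) y = 0) ∧
      ∀ g, IsTrType hF g → ∀ i j, ((D.mu i : Cfsg.IrrCharacter (Cfsg.Sz F m)) : Cfsg.Sz F m → ℂ) g =
        ((D.mu j : Cfsg.IrrCharacter (Cfsg.Sz F m)) : Cfsg.Sz F m → ℂ) g := by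
  haveI := isSimple (F := F) hm hF
  haveI := Fintype.ofFinite (Cfsg.Sz F m)
  subst hk
  obtain ⟨D, h1, h2⟩ := exists_tData_values (not_commutative hm hF) (P := T) ⟨hT.1, hT.2.2.2⟩
    (e := e) (by
      have h := Subgroup.relIndex_mul_relIndex ⊥ T (Subgroup.normalizer (T : Set (Cfsg.Sz F m))) bot_le
        Subgroup.le_normalizer
      rw [Subgroup.relIndex_bot_left, Subgroup.relIndex_bot_left, hn, mul_comm e] at h
      exact Nat.eq_of_mul_eq_mul_left Nat.card_pos h) het ht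
  refine ⟨D, h1, fun g hg => h2 g fun h hmem => ?_⟩
  obtain ⟨h', a, b, hab, he⟩ := hg
  exact hT.not_trType hm hF hmem ⟨h' * h, a, b, hab, by rw [← he]; group⟩

variable [Fintype (Cfsg.IrrCharacter (Cfsg.Sz F m))]

theorem fam_nonempty_W : (fam (F := F) (m := m) (dW m)).Nonempty := by
  obtain ⟨χ, hχ⟩ := (degShape_Sz (F := F) hm hF).2.1
  exact ⟨χ, mem_fam.2 hχ⟩

theorem fam_nonempty_T : (fam (F := F) (m := m) (dT m (kPlus m))).Nonempty := by
  obtain ⟨χ, hχ⟩ := (degShape_Sz (F := F) hm hF).2.2.2.1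
  exact ⟨χ, mem_fam.2 hχ⟩

/-- The diagonal torus. -/
theorem zero_torus : TVals hF (torusSubgroup hF) (dX m) (-1) 1 0 ∧
    (fam (F := F) (m := m) (dW m)).card = 1 ∧ (fam (F := F) (m := m) (dX m)).card + 1 = (2 ^ m) ^ 2 := by
  classical
  obtain ⟨ha, hw, hkp, hkm⟩ := numbers hm
  have hdW : (dW m : ℤ) = 4 * ((2 ^ m : ℕ) : ℤ) ^ 4 := by simp [dW]
  have hdX : (dX m : ℤ) = 4 * ((2 ^ m : ℕ) : ℤ) ^ 4 + 1 := by simp [dX]
  set a := 2 ^ m with had
  set w := 2 ^ (2 * m + 1) - 1 with hwd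
  have ha4 : 4 ≤ a ^ 2 := by nlinarith
  have hq : Fintype.card F - 1 = w := by rw [hF]
  obtain ⟨t, ht⟩ : ∃ t, a ^ 2 = t + 1 := ⟨a ^ 2 - 1, by omega⟩
  have het : 2 * t + 1 = w := by
    have : (w : ℤ) + 1 = ((2 * (t + 1) : ℕ) : ℤ) := by rw [← ht, hw]; push_cast; ring
    omega
  obtain ⟨D, hv, hconst⟩ := exists_data hm hF (isTor_torusSubgroup hm hF) (k := w) (e := 2)
    (by rw [card_torusSubgroup, hq]) (by rw [card_normalizer_torusSubgroup hm hF, hq]) het (by omega)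
  have hw7 : (7 : ℤ) ≤ w := by rw [hw]; nlinarith
  -- residues of the degrees
  have hres : ∀ χ : Cfsg.IrrCharacter (Cfsg.Sz F m), χ ≠ trivIrr (Cfsg.Sz F m) → ∃ r : ℤ,
      (w : ℤ) ∣ (dg χ : ℤ) - r ∧ (r = 0 ∨ r = 1 ∧ dg χ = dW m ∨ r = 2 ∧ dg χ = dX m) ∧
      (dg χ = dW m → r = 1) ∧ (dg χ = dX m → r = 2) := by
    intro χ hne
    have h1 : (w : ℤ) ∣ 4 * (a : ℤ) ^ 4 - 1 := ⟨2 * a ^ 2 + 1, by rw [hw]; ring⟩
    rcases degree_cases hm hF hne with h | h | h | h | h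
    · exact ⟨1, by rw [h, hdW]; exact h1, by tauto, fun _ => rfl, fun e => by
        simp [dW, dX, e] at h⟩
    · exact ⟨2, by rw [h, hdX]; convert h1 using 1; ring, by tauto, fun e => by
        simp [dW, dX, e] at h, fun _ => rfl⟩
    all_goals
      refine ⟨0, ?_, by tauto, fun e => ?_, fun e => ?_⟩
      · rw [sub_zero, h, Int.natCast_dvd_natCast]; exact Dvd.intro _ rfl
    all_goals
      exfalso
      have hd : (w : ℤ) ∣ (dg χ : ℤ) := by rw [h, Int.natCast_dvd_natCast]; exact Dvd.intro _ rfl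
    · rw [e, hdW] at hd
      have := eq_zero_of_small (dvd_sub hd h1) (by omega) (by omega); omega
    · rw [e, hdX] at hd
      have := eq_zero_of_small (dvd_sub hd h1) (by omega) (by omega); omega
    · rw [e, hdW] at hd
      have := eq_zero_of_small (dvd_sub hd h1) (by omega) (by omega); omega
    · rw [e, hdX] at hd
      have := eq_zero_of_small (dvd_sub hd h1) (by omega) (by omega); omega
    · rw [e, hdW] at hd
      have := eq_zero_of_small (dvd_sub hd h1) (by omega) (by omega); omega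
    · rw [e, hdX] at hd
      have := eq_zero_of_small (dvd_sub hd h1) (by omega) (by omega); omega
  have hn := D.norm_eq
  have hS : 0 ≤ ∑ χ ∈ D.R, D.f χ ^ 2 := Finset.sum_nonneg fun _ _ => sq_nonneg _
  push_cast at hn
  have ht3 : (3 : ℤ) ≤ t := by omega
  have hc : -1 ≤ D.c ∧ D.c ≤ 1 := ⟨by nlinarith [sq_nonneg (D.c + D.eps)],
    by nlinarith [sq_nonneg (D.c + D.eps)]⟩
  -- the exceptional family
  set j₀ : Fin t := ⟨0, by omega⟩
  obtain ⟨r, hr, hrc, -, -⟩ := hres (D.mu j₀) (D.mu_ne _)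
  have hcg := D.congr_X
  rw [show dg (D.mu j₀) = D.X from D.deg_mu j₀] at hr hrc
  push_cast at hcg
  have hr2 : r = D.c - 2 * D.eps := by
    have h := dvd_sub hcg hr
    rw [show (D.X : ℤ) - D.c + 2 * D.eps - ((D.X : ℤ) - r) = r - (D.c - 2 * D.eps) by ring] at h
    have := eq_zero_of_small h (by rcases D.eps_eq with e | e <;> rw [e] <;> omega)
      (by rcases D.eps_eq with e | e <;> rw [e] <;> omega)
    omega
  have hkey : D.X = dX m ∧ D.c = 0 ∧ D.eps = -1 := by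
    rcases hrc with h | ⟨h, h'⟩ | ⟨h, h'⟩
    · rcases D.eps_eq with e | e <;> rw [e] at hr2 <;> omega
    · exfalso
      rcases D.eps_eq with e | e <;> rw [e] at hr2 hn
      · omega
      · rw [show D.c = -1 by omega] at hn; norm_num at hn; nlinarith
    · refine ⟨h', ?_⟩
      rcases D.eps_eq with e | e <;> rw [e] at hr2 ⊢
      · omega
      · exact ⟨by omega, rfl⟩
  obtain ⟨hX, hc0, heps⟩ := hkey
  rw [hc0, heps] at hn
  have hS1 : ∑ χ ∈ D.R, D.f χ ^ 2 = 1 := by linarith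
  have hRcard : D.R.card = 1 := by
    have h2 := D.card_R_le_sum
    rcases Nat.eq_zero_or_pos D.R.card with h | h
    · rw [Finset.card_eq_zero.1 h, Finset.sum_empty] at hS1; omega
    · omega
  have hR : ∀ χ ∈ D.R, dg χ = dW m ∧ D.f χ = 1 := by
    intro χ hχ
    obtain ⟨r, hr, hrc, -, -⟩ := hres χ fun e => D.o_notMem (e ▸ hχ)
    have h := dvd_sub hr (D.congr_R χ hχ)
    rw [show (dg χ : ℤ) - r - ((dg χ : ℤ) - D.f χ) = D.f χ - r by ring] at h
    have hf1 : D.f χ = 1 ∨ D.f χ = -1 := sq_eq_one_iff.1 (le_antisymm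
      (hS1 ▸ Finset.single_le_sum (f := fun χ => D.f χ ^ 2) (fun _ _ => sq_nonneg _) hχ)
      (D.one_le_sq hχ))
    have := eq_zero_of_small h (by omega) (by omega)
    rcases hrc with e | ⟨e, e'⟩ | ⟨e, e'⟩ <;> omega
  have hconv : ∀ χ, χ ≠ trivIrr (Cfsg.Sz F m) → dg χ = dW m ∨ dg χ = dX m →
      (dg χ = dW m → χ ∈ D.R) ∧ (dg χ = dX m → χ ∈ D.E) := by
    intro χ hne hd
    obtain ⟨r, hr, hrc, hW, hXr⟩ := hres χ hne
    have hnd : ¬ w ∣ dg χ := fun h => by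
      have h2 := dvd_sub (Int.natCast_dvd_natCast.2 h) hr
      rw [sub_sub_cancel] at h2
      have := eq_zero_of_small h2 (by omega) (by omega)
      rcases hd with e | e
      · have := hW e; omega
      · have := hXr e; omega
    rcases (D.dvd_or_mem hne).resolve_left hnd with h | h
    · have : dg χ = D.X := D.deg_E h
      exact ⟨fun e => by simp [dW, dX, this, hX] at e, fun _ => h⟩
    · exact ⟨fun _ => h, fun e => by have := (hR χ h).1; simp [dW, dX, e] at this⟩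
  have hne : ∀ {χ : Cfsg.IrrCharacter (Cfsg.Sz F m)}, 1 < dg χ → χ ≠ trivIrr (Cfsg.Sz F m) := by
    rintro χ h rfl
    have h1 := BlocksChars.Degrees.charDegree_cast (trivIrr (Cfsg.Sz F m))
    simp only [trivIrr_coe] at h1
    have : dg (trivIrr (Cfsg.Sz F m)) = 1 := by exact_mod_cast h1
    omega
  have hdW1 : 1 < dW m ∧ 1 < dX m := by
    have : 0 < a ^ 4 := by positivity
    show 1 < 4 * a ^ 4 ∧ 1 < 4 * a ^ 4 + 1
    omega
  have eW : fam (dW m) = D.R := Finset.ext fun χ => by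
    rw [mem_fam]
    refine ⟨fun h => (hconv χ (hne (by omega)) (Or.inl h)).1 h, fun h => (hR χ h).1⟩
  have eX : fam (dX m) = D.E := Finset.ext fun χ => by
    rw [mem_fam]
    refine ⟨fun h => (hconv χ (hne (by omega)) (Or.inr h)).2 h, fun h => (D.deg_E h).trans hX⟩
  refine ⟨⟨?_, ?_, ?_, ?_, ?_⟩, by rw [eW, hRcard], by rw [eX, D.card_E]; omega⟩
  · intro y hy hy1 χ h0 h1 h2 h3
    refine (hv y hy hy1).2.2 χ h0 (fun h => h1 (hR χ h).1) fun j e => h3 ?_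
    rw [← e, ← hX]; exact D.deg_mu j
  · intro y hy hy1 χ hχ
    rw [eW] at hχ
    rw [(hv y hy hy1).2.1 χ hχ, (hR χ hχ).2]
  · intro y hy hy1 χ hχ
    rw [mem_fam] at hχ
    have hne' : χ ≠ trivIrr (Cfsg.Sz F m) := hne (by
      rw [hχ, dU, ← hwd]
      calc 1 < 7 * 2 := by norm_num
        _ ≤ w * a := Nat.mul_le_mul (by omega) ha)
    rw [(hv y hy hy1).2.2 χ hne' (fun h => ?_) fun j e => ?_, Int.cast_zero]
    · obtain ⟨r, -, -, hW, -⟩ := hres χ hne'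
      obtain ⟨r', hr', -, -, -⟩ := hres χ hne'
      have hd : (w : ℤ) ∣ (dg χ : ℤ) := by
        rw [hχ, Int.natCast_dvd_natCast]; exact Dvd.intro _ rfl
      have h2 := dvd_sub hd (D.congr_R χ h)
      rw [sub_sub_cancel, (hR χ h).2] at h2
      have := eq_zero_of_small h2 (by omega) (by omega)
      omega
    · have hd : (w : ℤ) ∣ (D.X : ℤ) := by
        rw [← D.deg_mu j, e]
        show (w : ℤ) ∣ (dg χ : ℤ)
        rw [hχ, Int.natCast_dvd_natCast]; exact Dvd.intro _ rfl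
      rw [hc0, heps] at hcg
      have h2 := dvd_sub hcg hd
      rw [show (D.X : ℤ) - 0 + 2 * -1 - D.X = -2 by ring] at h2
      have := eq_zero_of_small h2 (by omega) (by omega)
      omega
  · intro y hy hy1
    rw [eX, TData.E, Finset.sum_image fun i _ j _ h => D.inj h, (hv y hy hy1).1, hc0, heps]
    push_cast; ring
  · intro g hg χ hχ χ' hχ'
    rw [eX] at hχ hχ'
    obtain ⟨i, rfl⟩ := D.mem_E.1 hχ
    obtain ⟨j, rfl⟩ := D.mem_E.1 hχ'
    exact hconst g hg i j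

set_option maxHeartbeats 800000 in
/-- A torus of order `k ∣ q ^ 2 + 1` other than `5`. -/
theorem big_torus {T : Subgroup (Cfsg.Sz F m)} (hT : IsTor T) {k k' t : ℕ} {s : ℤ}
    (hk : (k = kPlus m ∧ k' = kMinus m ∧ s = 1) ∨ (k = kMinus m ∧ k' = kPlus m ∧ s = -1))
    (hcard : Nat.card T = k) (het : 4 * t + 1 = k) (h12 : 12 < k) :
    TVals hF T (dT m k') 1 (-1) s ∧ (fam (F := F) (m := m) (dU m)).card = 2 ∧
      (fam (F := F) (m := m) (dT m k')).card = t := by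
  classical
  obtain ⟨ha, hw, hkp, hkm⟩ := numbers hm
  have hdW : (dW m : ℤ) = 4 * ((2 ^ m : ℕ) : ℤ) ^ 4 := by simp [dW]
  have hdX : (dX m : ℤ) = 4 * ((2 ^ m : ℕ) : ℤ) ^ 4 + 1 := by simp [dX]
  have hdU : (dU m : ℤ) = ((2 ^ (2 * m + 1) - 1 : ℕ) : ℤ) * ((2 ^ m : ℕ) : ℤ) := by
    simp only [dU, Nat.cast_mul]
  have hdT : ∀ j, (dT m j : ℤ) = ((2 ^ (2 * m + 1) - 1 : ℕ) : ℤ) * (j : ℤ) := fun j => by
    simp only [dT, Nat.cast_mul]
  set a := 2 ^ m with had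
  set w := 2 ^ (2 * m + 1) - 1 with hwd
  have hs : s = 1 ∨ s = -1 := by rcases hk with h | h <;> tauto
  have hkk : (k : ℤ) = 2 * (a : ℤ) ^ 2 + 2 * s * a + 1 ∧ (k' : ℤ) = 2 * (a : ℤ) ^ 2 - 2 * s * a + 1 := by
    rcases hk with ⟨rfl, rfl, rfl⟩ | ⟨rfl, rfl, rfl⟩ <;> rw [hkp, hkm] <;> constructor <;> ring
  have hn : Nat.card (Subgroup.normalizer (T : Set (Cfsg.Sz F m))) = 4 * k := by
    rcases hT.cases hm hF with ⟨h, -, -⟩ | ⟨-, -, h⟩
    · exfalso
      obtain ⟨n1, n2, -⟩ := kPlus_ne (F := F) hm hF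
      rcases hk with ⟨rfl, -, -⟩ | ⟨rfl, -, -⟩
      exacts [n1 (hcard ▸ h), n2 (hcard ▸ h)]
    · rw [h, hcard]
  obtain ⟨D, hv, hconst⟩ := exists_data hm hF hT (k := k) (e := 4) hcard hn het (by omega)
  have hk12 : (12 : ℤ) < k := by exact_mod_cast h12
  have h1 : (k : ℤ) ∣ 4 * (a : ℤ) ^ 4 + 1 := ⟨k', by
    rcases hs with rfl | rfl <;> rw [hkk.1, hkk.2] <;> ring⟩
  have h4 : (k : ℤ) ∣ (dT m k' : ℤ) + 4 := ⟨2 * a ^ 2 - 4 * s * a + 3, by
    rcases hs with rfl | rfl <;> rw [hdT, hkk.1, hkk.2, hw] <;> ring⟩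
  have hU : (k : ℤ) ∣ (dU m : ℤ) - s := ⟨a - s, by
    rcases hs with rfl | rfl <;> rw [hdU, hkk.1, hw] <;> ring⟩
  -- residues of the degrees
  have hres : ∀ χ : Cfsg.IrrCharacter (Cfsg.Sz F m), χ ≠ trivIrr (Cfsg.Sz F m) → ∃ r : ℤ,
      (k : ℤ) ∣ (dg χ : ℤ) - r ∧
      (dg χ = dW m ∧ r = -1 ∨ dg χ = dT m k' ∧ r = -4 ∨ dg χ = dU m ∧ r = s ∨
        (dg χ = dX m ∨ dg χ = dT m k) ∧ r = 0) := by
    intro χ hne
    have hcase : dg χ = dW m ∨ dg χ = dX m ∨ dg χ = dT m k ∨ dg χ = dT m k' ∨ dg χ = dU m := by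
      rcases hk with ⟨rfl, rfl, -⟩ | ⟨rfl, rfl, -⟩ <;>
        rcases degree_cases hm hF hne with h | h | h | h | h
      exacts [.inl h, .inr (.inl h), .inr (.inr (.inl h)), .inr (.inr (.inr (.inl h))),
        .inr (.inr (.inr (.inr h))), .inl h, .inr (.inl h), .inr (.inr (.inr (.inl h))),
        .inr (.inr (.inl h)), .inr (.inr (.inr (.inr h)))]
    rcases hcase with h | h | h | h | h
    · exact ⟨-1, by rw [h, hdW, sub_neg_eq_add]; exact h1, .inl ⟨h, rfl⟩⟩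
    · exact ⟨0, by rw [h, hdX, sub_zero]; exact h1, .inr (.inr (.inr ⟨.inl h, rfl⟩))⟩
    · exact ⟨0, by rw [h, hdT, sub_zero]; exact dvd_mul_left _ _,
        .inr (.inr (.inr ⟨.inr h, rfl⟩))⟩
    · exact ⟨-4, by rw [h, sub_neg_eq_add]; exact h4, .inr (.inl ⟨h, rfl⟩)⟩
    · exact ⟨s, by rw [h]; exact hU, .inr (.inr (.inl ⟨h, rfl⟩))⟩
  have hn4 := D.norm_eq
  have hS : 0 ≤ ∑ χ ∈ D.R, D.f χ ^ 2 := Finset.sum_nonneg fun _ _ => sq_nonneg _
  push_cast at hn4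
  have ht3 : (3 : ℤ) ≤ t := by omega
  have hc : -1 ≤ D.c ∧ D.c ≤ 1 := ⟨by nlinarith [sq_nonneg (D.c + D.eps)],
    by nlinarith [sq_nonneg (D.c + D.eps)]⟩
  set j₀ : Fin t := ⟨0, by omega⟩
  obtain ⟨r, hr, hrc⟩ := hres (D.mu j₀) (D.mu_ne _)
  have hcg := D.congr_X
  rw [show dg (D.mu j₀) = D.X from D.deg_mu j₀] at hr hrc
  push_cast at hcg
  have hr2 : r = D.c - 4 * D.eps := by
    have h := dvd_sub hcg hr
    rw [show (D.X : ℤ) - D.c + 4 * D.eps - ((D.X : ℤ) - r) = r - (D.c - 4 * D.eps) by ring] at h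
    have := eq_zero_of_small h
      (by rcases hrc with h | h | h | h <;> rcases D.eps_eq with e | e <;> rw [e] <;> omega)
      (by rcases hrc with h | h | h | h <;> rcases D.eps_eq with e | e <;> rw [e] <;> omega)
    omega
  have hkey : D.X = dT m k' ∧ D.c = 0 ∧ D.eps = 1 := by
    rcases hrc with h | h | h | h <;> rcases D.eps_eq with e | e <;> rw [e] at hr2 ⊢ <;>
      first | (exfalso; omega) | exact ⟨h.1, by omega, rfl⟩
  obtain ⟨hX, hc0, heps⟩ := hkey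
  rw [hc0, heps] at hn4
  have hS3 : ∑ χ ∈ D.R, D.f χ ^ 2 = 3 := by linarith
  have hR : ∀ χ ∈ D.R, (dg χ = dW m ∧ D.f χ = -1) ∨ (dg χ = dU m ∧ D.f χ = s) := by
    intro χ hχ
    obtain ⟨r, hr, hrc⟩ := hres χ fun e => D.o_notMem (e ▸ hχ)
    have h := dvd_sub hr (D.congr_R χ hχ)
    rw [show (dg χ : ℤ) - r - ((dg χ : ℤ) - D.f χ) = D.f χ - r by ring] at h
    have hf : D.f χ ^ 2 = 1 := sq_eq_one_of_le_three (D.f_ne χ hχ)
      ((Finset.single_le_sum (f := fun χ => D.f χ ^ 2) (fun _ _ => sq_nonneg _) hχ).trans hS3.le)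
    have hf' := sq_eq_one_iff.1 hf
    have := eq_zero_of_small h (by rcases hrc with ⟨-, e⟩ | ⟨-, e⟩ | ⟨-, e⟩ | ⟨-, e⟩ <;> omega)
      (by rcases hrc with ⟨-, e⟩ | ⟨-, e⟩ | ⟨-, e⟩ | ⟨-, e⟩ <;> omega)
    rcases hrc with ⟨hd, e⟩ | ⟨-, e⟩ | ⟨hd, e⟩ | ⟨-, e⟩
    · exact Or.inl ⟨hd, by omega⟩
    · omega
    · exact Or.inr ⟨hd, by omega⟩
    · omega
  have hRcard : D.R.card = 3 := by
    have hone : ∀ χ ∈ D.R, D.f χ ^ 2 = 1 := fun χ h => by
      rcases hR χ h with ⟨-, e⟩ | ⟨-, e⟩ <;> rw [e] <;> rcases hs with e | e <;> simp [e]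
    rw [Finset.sum_congr rfl hone] at hS3
    simp only [Finset.sum_const, nsmul_eq_mul, mul_one] at hS3
    exact_mod_cast hS3
  have hdist : dT m k' ≠ dW m ∧ dT m k' ≠ dU m ∧ dW m ≠ dU m := by
    refine ⟨fun e => ?_, fun e => ?_, fun e => ?_⟩
    · rw [e, hdW] at h4
      have := eq_zero_of_small (dvd_sub h4 h1) (by omega) (by omega); omega
    · rw [e] at h4
      have := eq_zero_of_small (dvd_sub h4 hU) (by omega) (by omega); omega
    · have h2 : (dW m : ℤ) = dU m := by rw [e]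
      rw [hdW, hdU, hw] at h2
      have : (0 : ℤ) < a := by omega
      nlinarith [pow_pos this 3, pow_pos this 4]
  have hne : ∀ {χ : Cfsg.IrrCharacter (Cfsg.Sz F m)},
      dg χ = dW m ∨ dg χ = dU m ∨ dg χ = dT m k' → χ ≠ trivIrr (Cfsg.Sz F m) := by
    rintro χ h rfl
    have h1' := BlocksChars.Degrees.charDegree_cast (trivIrr (Cfsg.Sz F m))
    simp only [trivIrr_coe] at h1'
    have hone : dg (trivIrr (Cfsg.Sz F m)) = 1 := by exact_mod_cast h1'
    rw [hone] at h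
    rcases h with e | e | e
    · rw [← e] at hdW; norm_num at hdW; omega
    · rw [← e] at hU
      have := eq_zero_of_small hU (by omega) (by omega)
      have h2 : (dU m : ℤ) = 1 := by rw [← e]; rfl
      rw [hdU, hw] at h2
      nlinarith
    · rw [← e] at h4
      have := eq_zero_of_small h4 (by omega) (by omega); omega
  have hnd : ∀ {χ : Cfsg.IrrCharacter (Cfsg.Sz F m)},
      dg χ = dW m ∨ dg χ = dU m ∨ dg χ = dT m k' → ¬ k ∣ dg χ := by
    intro χ h hd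
    have hd' : (k : ℤ) ∣ (dg χ : ℤ) := Int.natCast_dvd_natCast.2 hd
    rcases h with e | e | e <;> rw [e] at hd'
    · rw [hdW] at hd'
      have := eq_zero_of_small (dvd_sub h1 hd') (by omega) (by omega); omega
    · have := eq_zero_of_small (dvd_sub hd' hU) (by omega) (by omega); omega
    · have := eq_zero_of_small (dvd_sub h4 hd') (by omega) (by omega); omega
  have eX : fam (dT m k') = D.E := Finset.ext fun χ => by
    rw [mem_fam]
    refine ⟨fun h => ?_, fun h => (D.deg_E h).trans hX⟩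
    rcases (D.dvd_or_mem (hne (Or.inr (Or.inr h)))).resolve_left (hnd (Or.inr (Or.inr h))) with h' | h'
    · exact h'
    · rcases hR χ h' with ⟨e, -⟩ | ⟨e, -⟩ <;> rw [h] at e
      exacts [absurd e hdist.1, absurd e hdist.2.1]
  have hmemR : ∀ χ, dg χ = dW m ∨ dg χ = dU m → χ ∈ D.R := by
    intro χ h
    have h2 : dg χ = dW m ∨ dg χ = dU m ∨ dg χ = dT m k' := h.imp id Or.inl
    rcases (D.dvd_or_mem (hne h2)).resolve_left (hnd h2) with h' | h'
    · have e := (D.deg_E h').trans hX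
      rcases h with h | h <;> rw [h] at e
      exacts [absurd e hdist.1.symm, absurd e hdist.2.1.symm]
    · exact h'
  have hcU : (fam (F := F) (m := m) (dU m)).card = 2 := by
    have hu : D.R = fam (dW m) ∪ fam (dU m) := Finset.ext fun χ => by
      rw [Finset.mem_union, mem_fam, mem_fam]
      exact ⟨fun h => (hR χ h).imp And.left And.left, hmemR χ⟩
    have hd : Disjoint (fam (F := F) (m := m) (dW m)) (fam (dU m)) :=
      Finset.disjoint_left.2 fun χ h h' => hdist.2.2 ((mem_fam.1 h).symm.trans (mem_fam.1 h'))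
    have := Finset.card_union_of_disjoint hd
    rw [← hu, hRcard, (zero_torus hm hF).2.1] at this
    omega
  refine ⟨⟨?_, ?_, ?_, ?_, ?_⟩, hcU, by rw [eX, D.card_E]⟩
  · intro y hy hy1 χ h0 h1 h2 h3
    refine (hv y hy hy1).2.2 χ h0 (fun h => ?_) fun j e => h3 ?_
    · rcases hR χ h with h | h
      exacts [h1 h.1, h2 h.1]
    · rw [← e, ← hX]; exact D.deg_mu j
  · intro y hy hy1 χ hχ
    rw [mem_fam] at hχ
    have h := hmemR χ (Or.inl hχ)
    rw [(hv y hy hy1).2.1 χ h]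
    rcases hR χ h with ⟨-, e⟩ | ⟨e, -⟩
    · rw [e]
    · exact absurd (hχ.symm.trans e) hdist.2.2
  · intro y hy hy1 χ hχ
    rw [mem_fam] at hχ
    have h := hmemR χ (Or.inr hχ)
    rw [(hv y hy hy1).2.1 χ h]
    rcases hR χ h with ⟨e, -⟩ | ⟨-, e⟩
    · exact absurd (e.symm.trans hχ) hdist.2.2
    · rw [e]
  · intro y hy hy1
    rw [eX, TData.E, Finset.sum_image fun i _ j _ h => D.inj h, (hv y hy hy1).1, hc0, heps]
    push_cast; ring
  · intro g hg χ hχ χ' hχ'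
    rw [eX] at hχ hχ'
    obtain ⟨i, rfl⟩ := D.mem_E.1 hχ
    obtain ⟨j, rfl⟩ := D.mem_E.1 hχ'
    exact hconst g hg i j

theorem plus_torus {T : Subgroup (Cfsg.Sz F m)} (hT : IsTor T) (hcard : Nat.card T = kPlus m) :
    TVals hF T (dT m (kMinus m)) 1 (-1) 1 ∧ (fam (F := F) (m := m) (dU m)).card = 2 ∧
      2 * (fam (F := F) (m := m) (dT m (kMinus m))).card = (2 ^ m) ^ 2 + 2 ^ m := by
  obtain ⟨ha, -, hkp, -⟩ := numbers hm
  obtain ⟨b, hb⟩ : ∃ b, 2 ^ m = 2 * b := ⟨2 ^ (m - 1), by rw [← pow_succ']; congr 1; omega⟩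
  have hk : kPlus m = 4 * (2 * b ^ 2 + b) + 1 := by
    have : (kPlus m : ℤ) = ((4 * (2 * b ^ 2 + b) + 1 : ℕ) : ℤ) := by rw [hkp, hb]; push_cast; ring
    exact_mod_cast this
  have hb1 : 1 ≤ b := by omega
  obtain ⟨h1, h2, h3⟩ := big_torus hm hF hT (s := 1) (Or.inl ⟨rfl, rfl, rfl⟩) hcard hk.symm
    (by rw [hk]; nlinarith)
  exact ⟨h1, h2, by rw [h3, hb]; ring⟩

theorem card_small : (fam (F := F) (m := m) (dU m)).card = 2 := by
  obtain ⟨x, -, hx, -, e1, -⟩ := exists_two_tori (F := F) hm hF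
  exact (plus_torus hm hF (isTor_of_fpf hm hF hx) e1).2.1

theorem minus_torus {T : Subgroup (Cfsg.Sz F m)} (hT : IsTor T) (hcard : Nat.card T = kMinus m) :
    TVals hF T (dT m (kPlus m)) 1 (-1) (-1) := by
  classical
  obtain ⟨ha, -, -, hkm⟩ := numbers hm
  obtain ⟨b, hb⟩ : ∃ b, 2 ^ m = 2 * (b + 1) := ⟨2 ^ (m - 1) - 1, by
    rw [show 2 ^ (m - 1) - 1 + 1 = 2 ^ (m - 1) from Nat.sub_add_cancel Nat.one_le_two_pow, ← pow_succ']
    congr 1; omega⟩
  have hk : kMinus m = 4 * (2 * b ^ 2 + 3 * b + 1) + 1 := by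
    have : (kMinus m : ℤ) = ((4 * (2 * b ^ 2 + 3 * b + 1) + 1 : ℕ) : ℤ) := by
      rw [hkm, hb]; push_cast; ring
    exact_mod_cast this
  rcases Nat.eq_zero_or_pos b with rfl | hb1
  swap
  · exact (big_torus hm hF hT (s := -1) (Or.inr ⟨rfl, rfl, rfl⟩) hcard hk.symm
      (by rw [hk]; nlinarith)).1
  -- the torus of order `5` of `Sz(8)`
  obtain rfl : m = 1 := Nat.pow_right_injective le_rfl (show 2 ^ m = 2 ^ 1 by omega)
  haveI := Fintype.ofFinite (Cfsg.Sz F 1)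
  norm_num at hk
  rw [hk] at hcard
  have hn : T.relIndex (Subgroup.normalizer (T : Set (Cfsg.Sz F 1))) = 4 := by
    have h4 : Nat.card (Subgroup.normalizer (T : Set (Cfsg.Sz F 1))) = 4 * 5 := by
      rcases hT.cases hm hF with ⟨h, -, -⟩ | ⟨-, -, h⟩
      · rw [hcard, hF] at h; norm_num at h
      · rw [h, hcard]
    have h := Subgroup.relIndex_mul_relIndex ⊥ T (Subgroup.normalizer (T : Set (Cfsg.Sz F 1))) bot_le
      Subgroup.le_normalizer
    rw [Subgroup.relIndex_bot_left, Subgroup.relIndex_bot_left, h4, hcard] at h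
    omega
  choose f hf hval using fun χ => values_one (P := T) ⟨hT.1, hT.2.2.2⟩ hn (by rw [hcard]) χ
  have hcases : ∀ χ : Cfsg.IrrCharacter (Cfsg.Sz F 1), χ ≠ trivIrr (Cfsg.Sz F 1) →
      dg χ = 64 ∨ dg χ = 65 ∨ dg χ = 91 ∨ dg χ = 35 ∨ dg χ = 14 := fun χ h => by
    have := degree_cases hm hF h
    norm_num [dW, dX, dT, dU, kPlus, kMinus] at this
    exact this
  rw [hcard] at hf
  have hsum : ∑ χ : Cfsg.IrrCharacter (Cfsg.Sz F 1), f χ ^ 2 = 5 := by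
    obtain ⟨t, ht, ht1⟩ := T.bot_or_exists_ne_one.resolve_left hT.1
    have h := second_orthogonality t t
    rw [if_pos (IsConj.refl _), hT.2.2.2 t ht ht1, hcard] at h
    simp only [hval _ t ht ht1, map_intCast] at h
    have h' : ((∑ χ : Cfsg.IrrCharacter (Cfsg.Sz F 1), f χ ^ 2 : ℤ) : ℂ) = ((5 : ℤ) : ℂ) := by
      push_cast; simpa [sq] using h
    exact_mod_cast h'
  have hone : (1 : ℤ) ≤ f (trivIrr (Cfsg.Sz F 1)) ^ 2 := by
    obtain ⟨t, ht, ht1⟩ := T.bot_or_exists_ne_one.resolve_left hT.1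
    have h := hval (trivIrr (Cfsg.Sz F 1)) t ht ht1
    simp only [trivIrr_coe] at h
    have : f (trivIrr (Cfsg.Sz F 1)) = 1 := by exact_mod_cast h.symm
    rw [this]; norm_num
  set S := fam (F := F) (m := 1) (dW 1) ∪ fam (dU 1) ∪ fam (dT 1 (kPlus 1)) with hS
  have hmemS : ∀ χ, χ ∈ S ↔ dg χ = 64 ∨ dg χ = 14 ∨ dg χ = 91 := fun χ => by
    norm_num [hS, mem_fam, dW, dU, dT, kPlus, or_assoc]
  have hoS : trivIrr (Cfsg.Sz F 1) ∉ S := fun h => by
    have h1 := BlocksChars.Degrees.charDegree_cast (trivIrr (Cfsg.Sz F 1))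
    simp only [trivIrr_coe] at h1
    have hd : dg (trivIrr (Cfsg.Sz F 1)) = 1 := by exact_mod_cast h1
    rw [hmemS, hd] at h; omega
  have hge : ∀ χ ∈ S, 1 ≤ f χ ^ 2 := fun χ h => by
    have h0 : f χ ≠ 0 := fun e => by
      have := hf χ
      rw [e] at this
      rcases (hmemS χ).1 h with h | h | h <;> rw [show Cfsg.charDegree _ = _ from h] at this <;>
        norm_num at this
    have : 0 < f χ ^ 2 := by positivity
    omega
  have hd1 : Disjoint (fam (F := F) (m := 1) (dW 1)) (fam (dU 1)) :=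
    Finset.disjoint_left.2 fun χ h h' => by
      rw [mem_fam] at h h'; rw [h] at h'; norm_num [dW, dU] at h'
  have hd2 : Disjoint (fam (F := F) (m := 1) (dW 1) ∪ fam (dU 1)) (fam (dT 1 (kPlus 1))) :=
    Finset.disjoint_left.2 fun χ h h' => by
      simp only [Finset.mem_union, mem_fam] at h h'
      rw [h'] at h; norm_num [dW, dU, dT, kPlus] at h
  have hcard4 : 4 ≤ S.card := by
    rw [hS, Finset.card_union_of_disjoint hd2, Finset.card_union_of_disjoint hd1,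
      (zero_torus hm hF).2.1, card_small hm hF]
    have := (fam_nonempty_T (F := F) hm hF).card_pos
    omega
  have hrest : ∀ χ, χ ≠ trivIrr (Cfsg.Sz F 1) → χ ∉ S → f χ = 0 := by
    intro χ hne hnot
    by_contra h0
    have h1 : 0 < f χ ^ 2 := by positivity
    have h2 := Finset.sum_le_sum_of_subset_of_nonneg (f := fun χ => f χ ^ 2)
      (Finset.subset_univ (insert (trivIrr (Cfsg.Sz F 1)) (insert χ S))) fun _ _ _ => sq_nonneg _
    rw [hsum, Finset.sum_insert (by simp [hoS, hne.symm]), Finset.sum_insert hnot] at h2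
    have h3 : (S.card : ℤ) ≤ ∑ χ ∈ S, f χ ^ 2 := by
      rw [Finset.card_eq_sum_ones, Nat.cast_sum]
      exact Finset.sum_le_sum fun χ h => by simpa using hge χ h
    omega
  have hSsum : ∑ χ ∈ S, f χ ^ 2 ≤ 4 := by
    have h2 := Finset.sum_le_sum_of_subset_of_nonneg (f := fun χ => f χ ^ 2)
      (Finset.subset_univ (insert (trivIrr (Cfsg.Sz F 1)) S)) fun _ _ _ => sq_nonneg _
    rw [hsum, Finset.sum_insert hoS] at h2
    omega
  have hsq : ∀ χ ∈ S, f χ ^ 2 = 1 := by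
    intro χ h
    have h3 : ((S.erase χ).card : ℤ) ≤ ∑ ψ ∈ S.erase χ, f ψ ^ 2 := by
      rw [Finset.card_eq_sum_ones, Nat.cast_sum]
      exact Finset.sum_le_sum fun ψ h => by simpa using hge ψ (Finset.mem_of_mem_erase h)
    rw [← Finset.add_sum_erase _ _ h] at hSsum
    rw [Finset.card_erase_of_mem h] at h3
    have := hge χ h
    omega
  have hfv : ∀ χ ∈ S, (dg χ = 64 → f χ = -1) ∧ (dg χ = 14 → f χ = -1) ∧ (dg χ = 91 → f χ = 1) := by
    intro χ h
    have hm5 := hf χ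
    rcases sq_eq_one_iff.1 (hsq χ h) with e | e <;> rw [e] at hm5 ⊢ <;>
      refine ⟨fun d => ?_, fun d => ?_, fun d => ?_⟩ <;>
      first
        | rfl
        | (exfalso; rw [show Cfsg.charDegree _ = _ from d] at hm5; norm_num at hm5)
  have hc1 : (fam (F := F) (m := 1) (dT 1 (kPlus 1))).card = 1 := by
    have h3 : (S.card : ℤ) ≤ ∑ χ ∈ S, f χ ^ 2 := by
      rw [Finset.card_eq_sum_ones, Nat.cast_sum]
      exact Finset.sum_le_sum fun χ h => by simpa using hge χ h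
    have h4 : S.card = 1 + 2 + (fam (F := F) (m := 1) (dT 1 (kPlus 1))).card := by
      rw [hS, Finset.card_union_of_disjoint hd2, Finset.card_union_of_disjoint hd1,
        (zero_torus hm hF).2.1, card_small hm hF]
    have := (fam_nonempty_T (F := F) hm hF).card_pos
    omega
  refine ⟨?_, ?_, ?_, ?_, ?_⟩
  · intro y hy hy1 χ h0 h1 h2 h3
    rw [hval χ y hy hy1, hrest χ h0 fun h => by
      simp only [hS, Finset.mem_union, mem_fam] at h; tauto, Int.cast_zero]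
  · intro y hy hy1 χ hχ
    have h : χ ∈ S := by rw [hS]; simp [hχ]
    rw [hval χ y hy hy1, (hfv χ h).1 (by rw [mem_fam.1 hχ]; norm_num [dW])]
  · intro y hy hy1 χ hχ
    have h : χ ∈ S := by rw [hS]; simp [hχ]
    rw [hval χ y hy hy1, (hfv χ h).2.1 (by rw [mem_fam.1 hχ]; norm_num [dU])]
  · intro y hy hy1
    obtain ⟨x, hx⟩ := Finset.card_eq_one.1 hc1
    have hxm : x ∈ fam (dT 1 (kPlus 1)) := by rw [hx]; simp
    have h : x ∈ S := by rw [hS]; simp [hxm]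
    rw [hx, Finset.sum_singleton, hval x y hy hy1,
      (hfv x h).2.2 (by rw [mem_fam.1 hxm]; norm_num [dT, kPlus])]
  · intro g hg χ hχ χ' hχ'
    obtain ⟨x, hx⟩ := Finset.card_eq_one.1 hc1
    rw [hx, Finset.mem_singleton] at hχ hχ'
    rw [hχ, hχ']

end Cfsg.Agent.BlocksChars.SuzukiDegrees
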